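import Mathlib
import Cfsg.Agent.Lib.Chev.RootSys

/-! Every root occurs linearly, with constant `±1`, in some commutator formula. -/

set_option autoImplicit false

namespace H38

open Cfsg Cfsg.Lie

/-- The root `r` occurs exactly once in the commutator formula for the pair `L[r]`, with
exponent `i = 1` and constant `±1`. -/
def GenData (D : ChevalleyDatum) (L : List (ℕ × ℕ)) : Bool :=
  (L.length == D.nroots) && allIdx (fun r p => decide (p.1 < D.nroots) && decide (p.2 < D.nroots) &&
    (p.2 != p.1) && (p.2 != D.nroots - 1 - p.1) &&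
    match (D.commTerms p.1 p.2).filter (fun c => c.1 == r) with
    | [c] => (c.2.2.1 == 1) && (c.2.1 == 1 || c.2.1 == -1)
    | _ => false) L 0

theorem genDataG2 : GenData chevG2
   [(1, 5), (0, 6), (0, 8), (1, 7), (0, 8), (1, 7), (0, 8), (0, 9), (1, 9), (5, 8), (0, 9), (1, 9)] = true := by
  decide +kernel

theorem genDataB2 : GenData chevB2
   [(3, 2), (0, 5), (1, 4), (0, 5), (0, 6), (1, 7), (2, 7), (3, 6)] = true := by
  decide +kernel

theorem genDataD4 : GenData chevD4
   [(1, 9), (5, 6), (5, 7), (5, 8), (5, 9), (1, 17), (7, 11), (6, 12), (6, 13), (7, 13), (1, 20),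
    (1, 21), (2, 22), (3, 22), (1, 23), (2, 23), (3, 23), (4, 23), (6, 22), (6, 23), (7, 23), (8,
    23), (9, 23), (14, 22)] = true := by
  decide +kernel

theorem genDataF4 : GenData chevF4
   [(4, 16), (4, 17), (5, 17), (7, 14), (5, 22), (1, 28), (0, 29), (8, 20), (14, 15), (14, 16), (14,
    17), (14, 18), (14, 19), (14, 20), (8, 32), (2, 34), (1, 35), (0, 36), (20, 21), (18, 24), (18,
    26), (1, 37), (0, 38), (2, 37), (2, 38), (0, 39), (1, 39), (3, 45), (3, 46), (3, 47), (0, 40),
    (1, 40), (2, 40), (7, 44), (7, 45), (7, 46), (7, 47), (8, 46), (8, 47), (9, 47), (11, 47), (0,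
    44), (1, 44), (2, 44), (18, 47), (4, 44), (5, 44), (6, 44)] = true := by
  decide +kernel

theorem genDataE6 : GenData chevE6
   [(1, 25), (11, 18), (14, 16), (14, 17), (14, 18), (15, 16), (15, 17), (15, 18), (15, 19), (15,
    20), (15, 21), (15, 26), (15, 27), (15, 28), (15, 29), (11, 45), (22, 27), (22, 28), (23, 28),
    (22, 29), (23, 29), (24, 29), (25, 30), (25, 31), (25, 32), (22, 41), (29, 30), (29, 31), (29,
    32), (26, 41), (32, 33), (30, 36), (30, 38), (2, 67), (33, 36), (3, 67), (4, 68), (3, 69), (4,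
    69), (2, 70), (3, 70), (4, 70), (15, 57), (15, 58), (15, 59), (15, 60), (1, 71), (2, 71), (3,
    71), (4, 71), (5, 71), (6, 71), (7, 71), (8, 71), (9, 71), (10, 71), (16, 66), (16, 69), (16,
    70), (17, 70), (18, 70), (16, 71), (17, 71), (18, 71), (19, 71), (20, 71), (21, 71), (22, 71),
    (23, 71), (24, 71), (25, 71), (46, 70)] = true := by
  decide +kernel

theorem genDataE7 : GenData chevE7
   [(1, 32), (7, 42), (7, 46), (7, 47), (8, 47), (9, 47), (10, 47), (27, 35), (30, 33), (30, 34),
    (30, 35), (31, 33), (31, 34), (31, 35), (31, 36), (31, 37), (31, 38), (32, 33), (32, 34), (32,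
    35), (32, 36), (32, 37), (32, 38), (32, 39), (32, 40), (32, 41), (32, 42), (32, 48), (32, 49),
    (32, 50), (32, 51), (32, 52), (27, 77), (43, 49), (43, 50), (44, 50), (43, 51), (44, 51), (45,
    51), (43, 52), (44, 52), (45, 52), (46, 52), (47, 53), (47, 54), (47, 55), (47, 56), (43, 72),
    (52, 53), (52, 54), (52, 55), (52, 56), (11, 108), (56, 57), (56, 58), (56, 59), (53, 68), (59,
    60), (57, 63), (57, 65), (4, 119), (60, 63), (5, 119), (6, 120), (5, 121), (6, 121), (4, 122),
    (5, 122), (6, 122), (3, 123), (4, 123), (5, 123), (6, 123), (2, 124), (3, 124), (4, 124), (5,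
    124), (6, 124), (7, 122), (7, 123), (8, 123), (9, 123), (10, 123), (7, 124), (8, 124), (9, 124),
    (10, 124), (11, 124), (12, 124), (13, 124), (14, 124), (15, 124), (16, 124), (1, 125), (2, 125),
    (3, 125), (4, 125), (5, 125), (6, 125), (7, 125), (8, 125), (9, 125), (10, 125), (11, 125), (12,
    125), (13, 125), (14, 125), (15, 125), (16, 125), (17, 125), (18, 125), (19, 125), (20, 125),
    (21, 125), (22, 125), (23, 125), (24, 125), (25, 125), (26, 125), (27, 125), (28, 125), (29,
    125), (30, 125), (31, 125), (32, 125), (93, 124)] = true := by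
  decide +kernel

theorem genDataE8 : GenData chevE8
   [(27, 41), (27, 42), (28, 42), (27, 45), (30, 45), (26, 55), (14, 77), (15, 76), (15, 77), (16,
    77), (17, 77), (18, 77), (19, 77), (20, 77), (15, 98), (36, 87), (21, 104), (22, 104), (23,
    104), (24, 104), (25, 104), (36, 96), (36, 97), (37, 97), (38, 97), (39, 97), (36, 98), (37,
    98), (38, 98), (39, 98), (40, 98), (41, 98), (42, 98), (43, 98), (44, 98), (45, 98), (71, 80),
    (74, 78), (74, 79), (74, 80), (75, 78), (75, 79), (75, 80), (75, 81), (75, 82), (75, 83), (76,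
    78), (76, 79), (76, 80), (76, 81), (76, 82), (76, 83), (76, 84), (76, 85), (76, 86), (76, 87),
    (77, 78), (77, 79), (77, 80), (77, 81), (77, 82), (77, 83), (77, 84), (77, 85), (77, 86), (77,
    87), (77, 88), (77, 89), (77, 90), (77, 91), (77, 92), (77, 99), (77, 100), (77, 101), (77,
    102), (77, 103), (77, 104), (71, 140), (93, 100), (93, 101), (94, 101), (93, 102), (94, 102),
    (95, 102), (93, 103), (94, 103), (95, 103), (96, 103), (93, 104), (94, 104), (95, 104), (96,
    104), (97, 104), (98, 105), (98, 106), (98, 107), (98, 108), (98, 109), (93, 134), (104, 105),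
    (104, 106), (104, 107), (104, 108), (104, 109), (46, 183), (109, 110), (109, 111), (109, 112),
    (109, 113), (40, 193), (113, 114), (113, 115), (113, 116), (110, 125), (116, 117), (114, 120),
    (114, 122), (0, 237), (117, 120), (0, 238), (1, 239), (2, 238), (2, 239), (3, 237), (3, 238),
    (3, 239), (4, 236), (4, 237), (4, 238), (4, 239), (5, 235), (5, 236), (5, 237), (5, 238), (5,
    239), (6, 234), (6, 235), (6, 236), (6, 237), (6, 238), (6, 239), (15, 225), (16, 225), (17,
    225), (18, 225), (19, 225), (20, 225), (8, 235), (8, 236), (8, 237), (8, 238), (8, 239), (9,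
    236), (9, 237), (9, 238), (9, 239), (10, 237), (10, 238), (10, 239), (11, 238), (11, 239), (12,
    239), (15, 231), (15, 232), (16, 232), (17, 232), (18, 232), (19, 232), (20, 232), (15, 235),
    (15, 236), (15, 237), (15, 238), (15, 239), (16, 236), (16, 237), (16, 238), (16, 239), (17,
    237), (17, 238), (17, 239), (18, 238), (18, 239), (19, 239), (21, 236), (21, 237), (21, 238),
    (21, 239), (22, 237), (22, 238), (22, 239), (23, 238), (23, 239), (24, 239), (26, 237), (26,
    238), (26, 239), (27, 238), (27, 239), (28, 239), (30, 238), (30, 239), (31, 239), (33, 239),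
    (36, 237), (36, 238), (36, 239), (37, 238), (37, 239), (38, 239), (40, 238), (40, 239), (41,
    239), (43, 239), (46, 238), (46, 239), (47, 239), (49, 239), (52, 239), (56, 238), (56, 239),
    (57, 239), (59, 239), (62, 239), (66, 239), (71, 239), (78, 238), (78, 239), (79, 239), (81,
    239), (84, 239), (88, 239), (93, 239), (99, 239), (105, 239), (110, 239), (114, 239), (117,
    239), (119, 239), (120, 238)] = true := by
  decide +kernel

theorem exists_genData {D : ChevalleyDatum}
    (hD : D ∈ [chevG2, chevB2, chevD4, chevF4, chevE6, chevE7, chevE8]) :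
    ∃ L, GenData D L = true := by
  simp only [List.mem_cons, List.not_mem_nil, or_false] at hD
  rcases hD with rfl | rfl | rfl | rfl | rfl | rfl | rfl
  exacts [⟨_, genDataG2⟩, ⟨_, genDataB2⟩, ⟨_, genDataD4⟩, ⟨_, genDataF4⟩, ⟨_, genDataE6⟩,
    ⟨_, genDataE7⟩, ⟨_, genDataE8⟩]

end H38
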