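import Cfsg.Agent.Base
import Cfsg.Agent.Lib.Chev.InvolOrth

/-! A root element conjugate to a root element in the centre of `U` belongs to a root of the
same length. -/

set_option autoImplicit false

namespace H9

open H38

variable {ι l : Type} [Fintype l] [DecidableEq l] {R : RS ι l}
variable {K : Type*} [Field K] {G : Type*} [Group G] {E : Elts R K G}

theorem comm_mem_higher {s : ι} (hs : R.Pos s) (a : K) {v : G} (hv : v ∈ E.U) :
    v * E.x s a * v⁻¹ * (E.x s a)⁻¹ ∈ E.XS {k | R.Pos k ∧ R.ht s < R.ht k} := by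
  have hne : ∀ {r k : ι}, R.Pos r → R.Pos k → k ≠ R.neg r := fun h1 h2 e =>
    (R.pos_neg_iff _).1 (e ▸ h2) h1
  refine E.XS_induction (P := fun v => v * E.x s a * v⁻¹ * (E.x s a)⁻¹ ∈ _) hv (fun r hr t => ?_)
    (by simp) fun u v hu _ h1 h2 => ?_
  · exact E.mem_XS_mono (E.comm_of_ne_neg (hne hr hs) t a) fun k hk =>
      ⟨R.pos_of_cone hr hs hk, (R.ht_lt_of_cone hr hs hk).2⟩
  · have h3 := E.XS_conj_mem (S := {k | R.Pos k ∧ R.ht s < R.ht k}) (T := {r | R.Pos r}) (fun r hr k hk => ⟨hne hr hk.1, fun j hj =>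
      ⟨R.pos_of_cone hr hk.1 hj, hk.2.trans (R.ht_lt_of_cone hr hk.1 hj).2⟩⟩) hu h2
    convert Subgroup.mul_mem _ h3 h1 using 1
    group

theorem eq_of_U_conj [Finite ι] (hF : E.Faith) {k s : ι} (hs : R.Pos s) {a c : K} (ha : a ≠ 0)
    (hc : c ≠ 0) {v : G} (hv : v ∈ E.U) (e : v * E.x s a * v⁻¹ = E.x k c) : k = s := by
  have h1 := comm_mem_higher hs a hv
  rw [e] at h1
  have h2 : E.x k c ∈ E.XS {k | R.Pos k ∧ (R.ht s < R.ht k ∨ k = s)} := by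
    have h3 : E.x s a ∈ E.XS {k | R.Pos k ∧ (R.ht s < R.ht k ∨ k = s)} :=
      E.x_mem_XS (And.intro hs (Or.inr rfl)) a
    have h4 := Subgroup.mul_mem _ (E.mem_XS_mono h1 fun _ h => And.intro h.1 (Or.inl h.2)) h3
    rwa [inv_mul_cancel_right] at h4
  have c1 : R.Closed {k | R.Pos k ∧ (R.ht s < R.ht k ∨ k = s)} := fun r hr j hj i hi =>
    ⟨R.pos_of_cone hr.1 hj.1 hi, Or.inl (by
      have := (R.ht_lt_of_cone hr.1 hj.1 hi).1
      rcases hr.2 with h | rfl <;> omega)⟩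
  have c2 : R.Closed {k | R.Pos k ∧ R.ht s < R.ht k} := fun r hr j hj i hi =>
    ⟨R.pos_of_cone hr.1 hj.1 hi, hr.2.trans (R.ht_lt_of_cone hr.1 hj.1 hi).1⟩
  have h3 := hF.mem_of_x_mem_XS c1 (fun _ h => h.1) hc h2
  refine h3.2.resolve_left fun h4 => ?_
  have h5 : E.x s a ∈ E.XS {k | R.Pos k ∧ R.ht s < R.ht k} := by
    have h6 : E.x k c ∈ E.XS {k | R.Pos k ∧ R.ht s < R.ht k} := E.x_mem_XS (And.intro h3.1 h4) c
    simpa using Subgroup.mul_mem _ (Subgroup.inv_mem _ h1) h6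
  exact lt_irrefl _ (hF.mem_of_x_mem_XS c2 (fun _ h => h.1) ha h5).2

theorem len_eq_of_isConj' [Finite ι] (hF : E.Faith) (top : E.Gp = ⊤) {r s : ι} (hs : R.Pos s)
    (cr : ∀ k, R.Pos k → ∀ a, Commute (E.x r 1) (E.x k a))
    (h : IsConj (E.x r 1) (E.x s 1)) : R.len r = R.len s := by
  obtain ⟨g, hg⟩ := isConj_iff.1 h
  obtain ⟨b, hb, n, w, hn, u, hu, rfl⟩ := E.bruhat (top ▸ Subgroup.mem_top g : g ∈ E.Gp)
  obtain ⟨v, hv, a, ha, rfl⟩ := E.mem_B.1 hb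
  have hm := (E.rep_of_mem_H ha).mul hn
  rw [one_mul] at hm
  obtain ⟨c, hc, e⟩ := hm.conj_x r
  have h1 : Commute (E.x r 1) u := E.XS_induction (P := fun u => Commute (E.x r 1) u) hu
    (fun k hk => cr k hk.1) (Commute.one_right _) fun _ _ _ _ h1 h2 => h1.mul_right h2
  have h3 : v⁻¹ * E.x s 1 * v⁻¹⁻¹ = E.x (w r) c := by
    rw [← mul_one c, ← e, ← hg]
    calc _ = a * n * (u * E.x r 1) * u⁻¹ * (a * n)⁻¹ := by group
      _ = _ := by rw [← h1.eq]; group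
  rw [← eq_of_U_conj hF hs one_ne_zero hc (Subgroup.inv_mem _ hv) h3, R.len_W hn.mem_W]

end H9
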