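import Mathlib

/-!
# Counting fixed points of elementary abelian groups of order `p²`, and Jordan's criterion
-/

set_option autoImplicit false
set_option linter.unusedSectionVars false

namespace H38

namespace FC

open MulAction

variable {G : Type*} [Group G] (Ω : Type*) [Fintype Ω] [MulAction G Ω]

/-- The number of fixed points. -/
noncomputable def fx (g : G) : ℕ := (fixedBy Ω g).ncard

variable {Ω}

theorem fx_conj {x y : G} (h : IsConj x y) : fx Ω y = fx Ω x := by
  obtain ⟨g, rfl⟩ := isConj_iff.mp h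
  rw [fx, ← smul_fixedBy, Set.ncard_smul_set]; rfl

theorem fx_le (g : G) : fx Ω g ≤ Fintype.card Ω := by
  rw [← Nat.card_eq_fintype_card]; exact Set.ncard_le_card _

theorem fx_lt [FaithfulSMul G Ω] {g : G} (h : g ≠ 1) : fx Ω g < Fintype.card Ω := by
  refine (fx_le g).lt_of_ne fun e => h ?_
  rw [← Nat.card_eq_fintype_card, fx, ← Set.ncard_univ] at e
  have := Set.eq_of_subset_of_ncard_le (Set.subset_univ (fixedBy Ω g)) e.ge
  exact fixedBy_eq_univ_iff_eq_one.mp this

theorem burnside {Q : Type*} [Group Q] [Finite Q] [MulAction Q Ω] {f : ℕ}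
    (hf : ∀ q : Q, q ≠ 1 → fx Ω q = f) :
    Nat.card Q ∣ Fintype.card Ω + (Nat.card Q - 1) * f ∧ ∀ m,
      (∀ x : Ω, Nat.card (stabilizer Q x) ≤ m) →
        Fintype.card Ω + (Nat.card Q - 1) * f ≤ m * Fintype.card Ω := by
  classical
  have := Fintype.ofFinite Q
  have h1 : ∑ q : Q, fx Ω q = Fintype.card Ω + (Nat.card Q - 1) * f := by
    rw [← Finset.add_sum_erase _ _ (Finset.mem_univ 1), Finset.sum_congr rfl
      fun q hq => hf q (Finset.ne_of_mem_erase hq), Finset.sum_const, Finset.card_erase_of_mem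
      (Finset.mem_univ _), Finset.card_univ, Nat.card_eq_fintype_card, smul_eq_mul, fx,
      fixedBy_one_eq_univ, Set.ncard_univ, Nat.card_eq_fintype_card]
  rw [← h1]
  refine ⟨?_, fun m hm => ?_⟩
  · have := Fintype.ofFinite (Quotient (orbitRel Q Ω))
    have h2 := sum_card_fixedBy_eq_card_orbits_mul_card_group Q Ω
    rw [Nat.card_eq_fintype_card]
    refine ⟨_, (Finset.sum_congr rfl fun q _ => ?_).trans (h2.trans (mul_comm _ _))⟩
    rw [fx, ← Nat.card_eq_fintype_card]; rfl
  · have h2 : ∀ q : Q, fx Ω q = ∑ x : Ω, if q • x = x then 1 else 0 := fun q => by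
      rw [Finset.sum_boole, fx, Set.ncard_eq_toFinset_card']
      congr 1; ext x; simp
    rw [Finset.sum_congr rfl fun q _ => h2 q, Finset.sum_comm, mul_comm, ← smul_eq_mul,
      ← Finset.card_univ]
    refine Finset.sum_le_card_nsmul _ _ _ fun x _ => le_of_eq_of_le ?_ (hm x)
    rw [Finset.sum_boole, Nat.card_eq_fintype_card, Fintype.card_subtype]
    rfl

theorem pair [Finite G] {p : ℕ} (hp : p.Prime) {a b : G} (ha : orderOf a = p) (hb : b ^ p = 1)
    (hab : Commute a b) (hc : ∀ i < p, ∀ j < p, i ≠ 0 ∨ j ≠ 0 → IsConj a (a ^ i * b ^ j)) :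
    p * p ∣ Fintype.card Ω + (p * p - 1) * fx Ω a ∧
      ((∀ x : Ω, ¬ p * p ∣ Nat.card (stabilizer G x)) →
        Fintype.card Ω + (p * p - 1) * fx Ω a ≤ p * Fintype.card Ω) := by
  classical
  have a1 : a ≠ 1 := fun e => hp.one_lt.ne' (by rw [← ha, e, orderOf_one])
  have hb' : orderOf b = p := by
    have := hc 0 hp.pos 1 hp.one_lt (Or.inr one_ne_zero)
    rw [pow_zero, pow_one, one_mul] at this
    have _ := Fact.mk hp
    refine orderOf_eq_prime hb fun e => a1 ?_
    rwa [e, isConj_one_left] at this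
  let φ : Subgroup.zpowers a × Subgroup.zpowers b →* G :=
    (Subgroup.zpowers a).subtype.noncommCoprod (Subgroup.zpowers b).subtype
      (by rintro ⟨_, i, rfl⟩ ⟨_, j, rfl⟩; exact hab.zpow_zpow i j)
  have hφ : ∀ q, q ≠ 1 → IsConj a (φ q) := by
    rintro ⟨⟨x, hx⟩, ⟨y, hy⟩⟩ hq
    obtain ⟨i, hi, rfl⟩ := Finset.mem_image.mp (mem_zpowers_iff_mem_range_orderOf.mp hx)
    obtain ⟨j, hj, rfl⟩ := Finset.mem_image.mp (mem_zpowers_iff_mem_range_orderOf.mp hy)
    rw [Finset.mem_range] at hi hj
    refine hc i (ha ▸ hi) j (hb' ▸ hj) ?_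
    by_contra h
    rw [not_or, not_not, not_not] at h
    exact hq (by simp [h.1, h.2, Prod.ext_iff])
  have hi : Function.Injective φ := (injective_iff_map_eq_one φ).mpr fun q hq => by
    by_contra h
    have := hφ q h
    rw [hq, isConj_one_left] at this
    exact a1 this
  have hcard : Nat.card (Subgroup.zpowers a × Subgroup.zpowers b) = p * p := by
    rw [Nat.card_prod, Nat.card_zpowers, Nat.card_zpowers, ha, hb']
  let _ := MulAction.compHom Ω φ
  obtain ⟨h1, h2⟩ := burnside (Ω := Ω) (Q := Subgroup.zpowers a × Subgroup.zpowers b)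
    (f := fx Ω a) fun q hq => fx_conj (G := G) (hφ q hq)
  rw [hcard] at h1 h2
  refine ⟨h1, fun h => h2 p fun x => ?_⟩
  have h3 := Subgroup.card_subgroup_dvd_card
    (stabilizer (Subgroup.zpowers a × Subgroup.zpowers b) x)
  rw [hcard, ← pow_two, Nat.dvd_prime_pow hp] at h3
  obtain ⟨k, hk, e⟩ := h3
  have : k ≠ 2 := by
    rintro rfl
    refine h x ?_
    rw [← pow_two, ← e, ← Subgroup.card_map_of_injective hi]
    refine Subgroup.card_dvd_of_le ?_
    rintro _ ⟨q, hq, rfl⟩
    exact hq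
  rw [e]
  calc p ^ k ≤ p ^ 1 := Nat.pow_le_pow_right hp.pos (by omega)
    _ = p := pow_one p

/-- An element normalizing a fixed-point-free cyclic group of prime order nontrivially has few
fixed points. -/
theorem frob {p r : ℕ} (hp : p.Prime) {s t : G} (hs : s ^ p = 1) (ht : t * s * t⁻¹ = s ^ (r + 1))
    (hr : ¬ p ∣ r) (hf : ∀ x : Ω, s • x ≠ x) : p * fx Ω t ≤ Fintype.card Ω := by
  have key : ∀ (x : Ω) (k : ℕ), s ^ k • x = x → p ∣ k := fun x k h => by
    by_contra hk
    have h1 : s ∈ stabilizer G x := by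
      have h2 : s ^ Nat.gcd p k ∈ stabilizer G x := by
        have := Nat.gcd_eq_gcd_ab p k
        rw [← zpow_natCast, this, zpow_add, zpow_mul, zpow_mul, zpow_natCast, zpow_natCast, hs,
          one_zpow, one_mul]
        exact zpow_mem h _
      rwa [(Nat.Prime.coprime_iff_not_dvd hp).mpr hk, pow_one] at h2
    exact hf x h1
  have key2 : ∀ (x : Ω) (k : ℕ), t • x = x → t • s ^ k • x = s ^ k • x → p ∣ k := by
    intro x k h1 h2
    have h3 : t * s ^ k = s ^ ((r + 1) * k) * t := by
      rw [pow_mul, ← ht, conj_pow]; group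
    rw [← mul_smul, h3, mul_smul, h1, add_mul, one_mul, add_comm, pow_add, mul_smul,
      smul_left_cancel_iff] at h2
    exact ((Nat.Prime.dvd_mul hp).mp (key x _ h2)).resolve_left hr
  have : Function.Injective fun q : Fin p × fixedBy Ω t => s ^ (q.1 : ℕ) • (q.2 : Ω) := by
    have aux : ∀ (i j : Fin p) (x y : fixedBy Ω t), i ≤ j →
        s ^ (i : ℕ) • (x : Ω) = s ^ (j : ℕ) • (y : Ω) → (i, x) = (j, y) := by
      intro i j x y hij h
      obtain ⟨k, hk⟩ := Nat.exists_eq_add_of_le (show (i : ℕ) ≤ j from hij)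
      rw [hk, pow_add, mul_smul, smul_left_cancel_iff] at h
      have h1 := key2 y k y.2 (h ▸ x.2)
      have h2 : k = 0 := Nat.eq_zero_of_dvd_of_lt h1 (by have := j.2; omega)
      rw [h2, pow_zero, one_smul] at h
      exact Prod.ext (Fin.ext (by simp [hk, h2])) (Subtype.ext h)
    rintro ⟨i, x⟩ ⟨j, y⟩ h
    rcases le_total i j with hij | hij
    · exact aux i j x y hij h
    · exact (aux j i y x hij h.symm).symm
  have := Nat.card_le_card_of_injective _ this
  rwa [Nat.card_prod, Nat.card_eq_fintype_card (α := Ω), Nat.card_eq_fintype_card (α := Fin p),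
    Fintype.card_fin] at this

/-- Jordan's criterion for an element of large prime order. -/
theorem jordan [FaithfulSMul G Ω] (h2 : IsMultiplyPretransitive G Ω 2) {p : ℕ} (hp : p.Prime)
    {s : G} (hs : orderOf s = p) (h1 : Fintype.card Ω < 2 * p) (h3 : p + 2 ≤ Fintype.card Ω) :
    Fintype.card Ω * (Fintype.card Ω - 1) * (Fintype.card Ω - 2) ∣ Nat.card G := by
  classical
  let φ := toPermHom G Ω
  have ho : orderOf (φ s) = p := (orderOf_injective φ toPerm_injective s).trans hs
  have hc : (φ s).IsCycle := Equiv.Perm.isCycle_of_prime_order' (ho ▸ hp) (ho ▸ h1)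
  have hsup : (φ s).support.card = p := hc.orderOf.symm.trans ho
  have hG : IsPreprimitive φ.range Ω := by
    have := isPreprimitive_of_is_two_pretransitive h2
    exact IsPreprimitive.of_surjective (M := G) (φ := φ.rangeRestrict)
      (f := ⟨id, fun _ _ => rfl⟩) Function.surjective_id
  obtain ⟨n, hn⟩ := Nat.exists_eq_add_of_le h3
  have h4 : IsMultiplyPreprimitive φ.range Ω (n + 1 + 2) := by
    apply hG.isMultiplyPreprimitive (s := ((φ s).support : Set Ω)ᶜ)
    · apply Nat.add_left_cancel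
      rw [Set.ncard_add_ncard_compl, Set.ncard_coe_finset, hsup, Nat.card_eq_fintype_card, hn]
      ring
    · have := hp.one_lt
      rw [Nat.card_eq_fintype_card]; omega
    have := Equiv.Perm.isPretransitive_of_isCycle_mem hc (MonoidHom.mem_range.mpr ⟨s, rfl⟩)
    apply IsPreprimitive.of_prime_card
    convert hp
    rw [Nat.card_eq_fintype_card, Fintype.card_subtype, ← hsup]
    apply congr_arg
    ext x
    simp [SubMulAction.mem_ofFixingSubgroup_iff]
  have h5 : IsMultiplyPretransitive φ.range Ω (n + 1 + 2) :=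
    IsMultiplyPreprimitive.isMultiplyPretransitive ..
  have h6 : IsMultiplyPretransitive φ.range Ω 3 :=
    isMultiplyPretransitive_of_le (n := n + 1 + 2) (by omega) (by
      have := hp.one_lt
      rw [Nat.card_eq_fintype_card]; omega)
  obtain ⟨S, hS⟩ := Set.exists_subset_card_eq (s := (Set.univ : Set Ω)) (n := 3) (by
    have := hp.one_lt
    rw [Set.ncard_univ, Nat.card_eq_fintype_card]; omega)
  have h7 := h6.index_of_fixingSubgroup_mul hS.2
  have h8 := ((fixingSubgroup φ.range S).index_dvd_card).trans (Subgroup.card_range_dvd φ)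
  obtain ⟨m, hm⟩ : ∃ m, Fintype.card Ω = m + 3 := ⟨Fintype.card Ω - 3, by have := hp.one_lt; omega⟩
  rw [Nat.card_eq_fintype_card, hm, Nat.add_sub_cancel, Nat.factorial_succ, Nat.factorial_succ,
    Nat.factorial_succ, ← mul_assoc, ← mul_assoc] at h7
  rw [hm, show m + 3 - 1 = m + 1 + 1 from rfl, show m + 3 - 2 = m + 1 from rfl]
  exact Nat.eq_of_mul_eq_mul_right (Nat.factorial_pos m) h7 ▸ h8

theorem index_two (h2 : IsMultiplyPretransitive G Ω 2) {x y : Ω} (h : x ≠ y) :
    (fixingSubgroup G {x, y}).index = Fintype.card Ω * (Fintype.card Ω - 1) := by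
  have h7 := h2.index_of_fixingSubgroup_mul (Set.ncard_pair h)
  obtain ⟨m, hm⟩ : ∃ m, Fintype.card Ω = m + 2 :=
    ⟨Fintype.card Ω - 2, by have := Fintype.one_lt_card_iff.mpr ⟨x, y, h⟩; omega⟩
  rw [Nat.card_eq_fintype_card, hm, Nat.add_sub_cancel, Nat.factorial_succ, Nat.factorial_succ,
    ← mul_assoc] at h7
  rw [hm]
  exact Nat.eq_of_mul_eq_mul_right (Nat.factorial_pos m) h7

end FC

end H38
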