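import Mathlib
import Cfsg.Agent.Lib.Chev.OverMat
import Cfsg.Agent.Lib.Chev.Simple

/-!
A finite subgroup of a matrix Chevalley group containing all `x_r(1)` lies between the group over a
finite subfield and the group of matrices over that subfield.
-/

set_option autoImplicit false

namespace H38

open Cfsg Cfsg.Lie

variable {D : ChevalleyDatum} {F : Type*} [Field F] {R : RootSys D}
  {E : Elts R.toRS F (GL D.Idx F)}

/-- All positive roots except the highest one and those in `exc` have a unit leading term. -/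
def stepChk (D : ChevalleyDatum) (exc : List ℕ) : Bool :=
  allLt D.nroots fun γ => !decide (D.IsPosRoot γ) || γ == D.nroots - 1 || exc.contains γ ||
    (List.range D.rank).any fun i => decide (D.IsPosRoot (D.simple i)) &&
      headOK D (fun N => N.natAbs == 1) (D.simple i) γ

/-- The conclusion for a subfield `A`. -/
def Good (E : Elts R.toRS F (GL D.Idx F)) (M : Subgroup (GL D.Idx F)) (A : Subfield F) : Prop :=
  E.XA A Set.univ ≤ M ∧ ∀ f, Elts.fixF f = A → ∀ γ, R.Pos γ → StepOK E M f γ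

lemma intCast_ne_zero_of_ne (p q : ℕ) [hp : Fact p.Prime] [CharP F p] (hq : q.Prime) (h : p ≠ q)
    {N : ℤ} (hN : N.natAbs = q) : (N : F) ≠ 0 := fun e =>
  h ((Nat.prime_dvd_prime_iff_eq hp.out hq).mp
    (hN ▸ Int.natCast_dvd.mp ((CharP.intCast_eq_zero_iff F p N).mp e)))

namespace IsMat

variable (hE : IsMat R E) {M : Subgroup (GL D.Idx F)}
include hE

lemma word_mem₀ {r s : ℕ} {L : List (ℕ × ℤ × ℕ × ℕ)}
    (h : r < D.nroots ∧ s < D.nroots ∧ s ≠ r ∧ s ≠ D.neg r ∧ D.commTerms r s = L)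
    {t u : F} (ht : t ∈ hE.co M r) (hu : u ∈ hE.co M s) : (L.map fun c =>
      hE.facts.xU c.1 ((c.2.1 : F) * t ^ c.2.2.1 * u ^ c.2.2.2)).prod ∈ M := by
  have := hE.facts.stRel.comm r h.1 s h.2.1 h.2.2.1 h.2.2.2.1 (-t) u
  rw [ChevalleyDatum.commWord, h.2.2.2.2, List.map_map, neg_neg, ← inv_mul_eq_iff_eq_mul] at this
  have ht' := hE.mem_co.mp (neg_mem ht)
  exact this ▸ M.mul_mem (M.inv_mem (M.mul_mem ht' hu)) (M.mul_mem hu ht')

lemma finite_of_co [Finite M] {r : ℕ} (hr : r < D.nroots) {A : Subfield F}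
    (h : ∀ t, t ∈ A ↔ t ∈ hE.co M r) : Finite A :=
  have := hE.finite_co (M := M) hr
  Finite.of_injective (fun t : A => (⟨t, (h t).mp t.2⟩ : hE.co M r))
    fun _ _ e => Subtype.ext (congrArg (Subtype.val (p := (· ∈ hE.co M r))) e)

lemma reflect_two [CharP F 2] (h1 : ∀ r, E.x r 1 ∈ M) {i a b : ℕ}
    (h : i < D.rank ∧ a < D.nroots ∧ b < D.nroots) {c d : F}
    (hm : hE.facts.xU a c * hE.facts.xU b d ∈ M) :
    hE.facts.xU (D.reflectRoot i a) c * hE.facts.xU (D.reflectRoot i b) d ∈ M := by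
  have e : ∀ r (hr : r < D.nroots) t, E.n (R.sim ⟨i, h.1⟩) 1 * hE.facts.xU r t *
      (E.n (R.sim ⟨i, h.1⟩) 1)⁻¹ = hE.facts.xU (D.reflectRoot i r) t := fun r hr t => by
    rw [← hE.x_eq_xU ⟨r, hr⟩, E.nconj _ _ 1 one_ne_zero, one_zpow, mul_one, R.refl_sim, hE.x_eq_xU,
      ← R.s_apply, R.s_val]
    rcases E.η_sign (R.sim ⟨i, h.1⟩) ⟨r, hr⟩ with e | e <;> simp [e, CharTwo.neg_eq]
  rw [← e a h.2.1, ← e b h.2.2, conj_mul]
  exact M.mul_mem (M.mul_mem (n_mem h1 _) hm) (M.inv_mem (n_mem h1 _))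

lemma exists_up {m : ℕ} (hm : m < D.nroots) {u : GL D.Idx F} (hu : u ∈ E.XS (R.up m)) :
    ∃ c, ∃ v ∈ E.XS (R.up (m + 1)), u = hE.facts.xU m c * v := by
  obtain ⟨a, ha, v, hv, rfl⟩ := E.exists_mul (R.closed_up m) (fun _ h => h.1)
    (S1 := {⟨m, hm⟩}) (S2 := R.up (m + 1))
    (fun k hk => hk.2.eq_or_lt.imp (fun e => Fin.ext e.symm) fun e => ⟨hk.1, e⟩) hu
  obtain ⟨c, rfl⟩ := E.XS_singleton _ ▸ E.mem_XS_mono ha fun _ h => h.2
  exact ⟨c, v, E.mem_XS_mono hv fun _ h => h.2, by rw [← hE.x_eq_xU ⟨m, hm⟩]⟩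

omit hE in
lemma eq_one_up {m : ℕ} (hm : D.nroots ≤ m) {u : GL D.Idx F} (hu : u ∈ E.XS (R.up m)) : u = 1 := by
  rwa [show R.up m = ∅ from Set.eq_empty_of_forall_notMem fun k hk => (hm.trans hk.2).not_gt k.2,
    E.XS_empty, Subgroup.mem_bot] at hu

lemma commute_up (p : ℕ) [CharP F p] {r m : ℕ} (h : r < D.nroots ∧ ∀ k < D.nroots, m ≤ k →
    k ≠ r ∧ k ≠ D.neg r ∧ modTerms D p r k = []) {u : GL D.Idx F} (hu : u ∈ E.XS (R.up m)) (t : F) :
    Commute (hE.facts.xU r t) u :=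
  E.XS_induction (P := fun u => Commute (hE.facts.xU r t) u) hu
    (fun k hk c => hE.x_eq_xU k c ▸ hE.commute_nat p ⟨h.1, k.2, h.2 k k.2 hk.2⟩ t c)
    (Commute.one_right _) fun _ _ _ _ a1 a2 => a1.mul_right a2

lemma stepOK_of_mem {A : Subfield F} {f : F →+* F} (hf : Elts.fixF f = A) {γ : Fin D.nroots} {m : ℕ}
    (hγ : (γ : ℕ) = m) (h : ∀ c, ∀ u ∈ E.XS (R.up (m + 1)), hE.facts.xU m c * u ∈ M → c ∈ A) :
    StepOK E M f γ := fun _ c u hu hm =>
  Elts.mem_fixF.mp (hf ▸ h c u (hγ ▸ hu) (by rwa [← hγ, ← hE.x_eq_xU]))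

variable (hD : D ∈ [chevG2, chevB2, chevD4, chevF4, chevE6, chevE7, chevE8])
include hD

theorem fix_of_good (p : ℕ) [Fact p.Prime] [CharP F p] [Finite M] (hM : M ≤ E.Gp) {A : Subfield F}
    (h : Good E M A) {f : F →+* F} (hf : Elts.fixF f = A) {m : GL D.Idx F} (hm : m ∈ M) :
    Matrix.GeneralLinearGroup.map f m = m := by
  obtain ⟨i, j, hi, hj, a1, a2, a3, a4⟩ : ∃ i j, i < D.rank ∧ j < D.rank ∧ 1 < D.rank ∧
      D.pairing (D.nroots - 1) (D.simple i) ≠ 0 ∧ D.pairing (D.nroots - 1) (D.simple j) = 0 ∧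
      (D.cartan i (D.simple j) = -1 ∨ D.cartan i (D.simple j) = -2) := by
    simp only [List.mem_cons, List.not_mem_nil, or_false] at hD
    rcases hD with rfl | rfl | rfl | rfl | rfl | rfl | rfl
    exacts [⟨1, 0, by decide +kernel⟩, ⟨0, 1, by decide +kernel⟩, ⟨1, 0, by decide +kernel⟩,
      ⟨3, 2, by decide +kernel⟩, ⟨1, 3, by decide +kernel⟩, ⟨0, 2, by decide +kernel⟩,
      ⟨7, 6, by decide +kernel⟩]
  have h0 : D.nroots - 1 < D.nroots := by
    have := (R.sim ⟨i, hi⟩).2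
    omega
  have hO : E.Over (Matrix.GeneralLinearGroup.map f) f M :=
    ⟨hE.isField hD f, hE.faith, hE.R3, fun h hh e => hE.eq_one_of_comm hh fun r => e r 1,
      R.connected hD, fun k => by
        by_cases e : (k : ℕ) = 0
        exacts [⟨⟨1, a1⟩, fun e' => by simp [← e'] at e⟩, ⟨⟨0, by omega⟩, fun e' => e (by rw [← e'])⟩],
      hM, hf ▸ h.1, hE.fixU hD (hf ▸ h.1) (h.2 f hf)⟩
  have e1 : ∀ k : Fin D.rank, R.pair ⟨_, h0⟩ (R.sim k) = D.pairing (D.nroots - 1) (D.simple k) :=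
    fun k => by rw [← R.pairing_eq, R.sim_eq]
  refine hO.fix (R.isTop (θ := ⟨_, h0⟩) rfl) p (i := ⟨i, hi⟩) (j := ⟨j, hj⟩)
    (fun e => a2 ((e1 _).symm.trans e)) ((e1 _).trans a3) ?_ hm
  rwa [← R.wt_sim, ← R.cartan_eq, R.sim_eq]

variable (h1 : ∀ r, E.x r 1 ∈ M)
include h1

lemma good_of {A : Subfield F} (hA : E.XA A Set.univ ≤ M) {exc : List ℕ} (h : stepChk D exc = true)
    (hθ : ∀ t ∈ hE.co M (D.nroots - 1), t ∈ A)
    (he : ∀ f, Elts.fixF f = A → ∀ γ : Fin D.nroots, R.Pos γ → (γ : ℕ) ∈ exc → StepOK E M f γ) :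
    Good E M A := by
  refine ⟨hA, fun f hf γ hγ => ?_⟩
  simp only [stepChk, allLt_iff, Bool.or_eq_true, Bool.not_eq_true', decide_eq_false_iff_not,
    beq_iff_eq, List.contains_iff_mem, List.any_eq_true, Bool.and_eq_true, decide_eq_true_eq] at h
  rcases h γ γ.2 with ((h | h) | h) | ⟨i, -, a1, a2⟩
  · exact (h ((R.isPosRoot_iff γ).mpr hγ)).elim
  · exact hE.stepOK_of_mem hf h fun c u hu hm => hθ c (by
      rwa [eq_one_up (by omega) hu, mul_one] at hm)
  · exact he f hf γ hγ h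
  · refine hE.stepOK_of_head h1 hD f (fun N hN => ?_) a1 hγ a2
    rcases Int.natAbs_eq_iff.mp (beq_iff_eq.mp hN) with rfl | rfl <;> simp

omit hD in
lemma exists_long [Finite M] {a b θ : ℕ} (h : a < D.nroots ∧ b < D.nroots ∧ b ≠ a ∧ b ≠ D.neg a ∧
    D.commTerms a b = [(θ, 1, 1, 1)]) (ha : a < D.nroots ∧ θ < D.nroots ∧ D.pairing a θ = 1 ∧
    D.pairing θ a = 1) (hb : b < D.nroots ∧ θ < D.nroots ∧ D.pairing b θ = 1 ∧ D.pairing θ b = 1) :
    ∃ A : Subfield F, (∀ t, t ∈ A ↔ t ∈ hE.co M θ) ∧ ∀ t ∈ A, t ∈ hE.co M a := by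
  have := hE.finite_co (M := M) ha.2.1
  obtain ⟨A, hA⟩ := exists_subfield (hE.one_mem_co h1 θ) fun t ht u hu => by
    simpa [mem_co] using hE.word_mem₀ h (hE.co_pair h1 ha ▸ ht) (hE.co_pair h1 hb ▸ hu)
  exact ⟨A, hA, fun t ht => hE.co_pair h1 ha ▸ (hA t).mp ht⟩

lemma good_laced [Finite M] {i b : ℕ} (h : D.simple i < D.nroots ∧ b < D.nroots ∧ b ≠ D.simple i ∧
    b ≠ D.neg (D.simple i) ∧ D.commTerms (D.simple i) b = [(D.nroots - 1, 1, 1, 1)])
    (ha : D.simple i < D.nroots ∧ D.nroots - 1 < D.nroots ∧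
      D.pairing (D.simple i) (D.nroots - 1) = 1 ∧ D.pairing (D.nroots - 1) (D.simple i) = 1)
    (hb : b < D.nroots ∧ D.nroots - 1 < D.nroots ∧ D.pairing b (D.nroots - 1) = 1 ∧
      D.pairing (D.nroots - 1) b = 1) (hn : (bondStep D)^[D.rank] [i] = List.range D.rank)
    (hs : stepChk D [] = true) :
    ∃ A : Subfield F, (∀ t, t ∈ A ↔ t ∈ hE.co M (D.nroots - 1)) ∧ Good E M A := by
  obtain ⟨A, a1, a2⟩ := hE.exists_long h1 h ha hb
  exact ⟨A, a1, hE.good_of hD h1 (hE.XA_le h1 (by simpa using a2) _ hn) hs (fun t => (a1 t).mpr)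
    (by simp)⟩

end IsMat

section types

variable (p : ℕ) [Fact p.Prime] [CharP F p]
include p

lemma good_G2 {R : RootSys chevG2} {E : Elts R.toRS F (GL chevG2.Idx F)} (hE : IsMat R E)
    {M : Subgroup (GL chevG2.Idx F)} [Finite M] (h1 : ∀ r, E.x r 1 ∈ M) :
    ∃ A : Subfield F, (∀ t, t ∈ A ↔ t ∈ hE.co M 11) ∧ Good E M A := by
  have hD : chevG2 ∈ [chevG2, chevB2, chevD4, chevF4, chevE6, chevE7, chevE8] := by simp
  obtain ⟨A, a1, a2⟩ := hE.exists_long h1 (a := 6) (b := 10) (θ := 11) (by decide +kernel)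
    (by decide +kernel) (by decide +kernel)
  have a3 := hE.le_co_of_torus h1 (a := 6) (b := 7) (by decide +kernel) a2
  refine ⟨A, a1, hE.good_of hD h1 (hE.XA_le h1 (L := [0, 1]) (by simpa using ⟨a3, a2⟩) 1
    (by decide +kernel)) (exc := [8, 9]) (by decide +kernel) (fun t => (a1 t).mpr)
    fun f hf γ hγ h => ?_⟩
  simp only [List.mem_cons, List.not_mem_nil, or_false] at h
  by_cases hp : p = 3
  swap
  · have hP : ∀ N : ℤ, (N.natAbs == 3) = true → (N : F) ≠ 0 := fun N hN =>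
      intCast_ne_zero_of_ne p 3 Nat.prime_three hp (beq_iff_eq.mp hN)
    rcases h with h | h
    · exact hE.stepOK_of_head h1 hD f hP (r := 9) (by decide +kernel) hγ (by rw [h]; decide +kernel)
    · exact hE.stepOK_of_head h1 hD f hP (r := 7) (by decide +kernel) hγ (by rw [h]; decide +kernel)
  subst hp
  have h2 : ∀ N : ℤ, (N.natAbs == 2) = true → (N : F) ≠ 0 := fun N hN =>
    intCast_ne_zero_of_ne 3 2 Nat.prime_two (by decide) (beq_iff_eq.mp hN)
  rcases h with h | h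
  · exact hE.stepOK_of_head h1 hD f h2 (r := 7) (by decide +kernel) hγ (by rw [h]; decide +kernel)
  have iso : ∀ d v, (∀ t, Commute (hE.facts.xU 6 t) v) → (∀ t, Commute (hE.facts.xU 11 t) v) →
      hE.facts.xU 10 d * v ∈ M → d ∈ hE.co M 11 := fun d v b1 b2 b3 => by
    simpa using hE.isolate 3 (r := 6) (N := 1) (by decide +kernel) (hE.one_mem_co h1 6) b1 b2 b3
  have e1 : hE.co M 8 = hE.co M 9 := hE.co_pair h1 (by decide +kernel)
  have e2 : hE.co M 7 = hE.co M 9 := hE.co_pair h1 (by decide +kernel)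
  have e3 : hE.co M 10 = hE.co M 11 := hE.co_pair h1 (by decide +kernel)
  have c1 := fun t d => hE.commute_nat 3 (r := 6) (s := 11) (by decide +kernel) t d
  have c2 : ∀ t d, Commute (hE.facts.xU 11 t) (hE.facts.xU 11 d) := fun t d => by
    rw [Commute, SemiconjBy, hE.xU_add (by decide), hE.xU_add (by decide), add_comm]
  have short : ∀ t ∈ hE.co M 9, t ∈ A := fun t ht => by
    have := hE.finite_of_co (by decide) a1
    have b1 := hE.word_mem 3 (r := 7) (s := 8) (by decide +kernel) (e2 ▸ ht) (e1 ▸ ht)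
    rw [show modTerms chevG2 3 7 8 = [(9, -2, 1, 1)] by decide +kernel, List.map_singleton,
      List.prod_singleton, pow_one, mul_assoc] at b1
    have b2 := mem_of_zsmul_mem (A := hE.co M 9) 3 (h2 _ rfl) b1
    have b3 := hE.word_mem₀ (r := 7) (s := 6) (L := [(8, -1, 1, 1), (9, 1, 2, 1), (10, 1, 3, 1),
      (11, 1, 3, 2)]) (by decide +kernel) (e2 ▸ ht) (hE.one_mem_co h1 6)
    simp only [List.map_cons, List.map_nil, List.prod_cons, List.prod_nil, Int.cast_one,
      Int.cast_neg, one_mul, mul_one, one_pow, pow_one, neg_mul] at b3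
    rw [M.mul_mem_cancel_left (hE.mem_co.mp (neg_mem (e1 ▸ ht))),
      M.mul_mem_cancel_left (hE.mem_co.mp (sq t ▸ b2))] at b3
    exact mem_of_pow_mem 3 ((a1 _).mpr (iso _ _ (fun s => c1 s _) (fun s => c2 s _) b3))
  refine hE.stepOK_of_mem hf h fun c u hu hm => short c ?_
  obtain ⟨d, v, hv, rfl⟩ := hE.exists_up (by decide) hu
  obtain ⟨d', w, hw, rfl⟩ := hE.exists_up (by decide) hv
  rw [IsMat.eq_one_up (by decide) hw, mul_one, ← mul_assoc,
    (hE.commute_nat 3 (r := 9) (s := 10) (by decide +kernel) c d).eq, mul_assoc] at hm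
  have b1 := iso _ _ (fun t => (hE.commute_nat 3 (by decide +kernel) t c).mul_right (c1 t d'))
    (fun t => (hE.commute_nat 3 (by decide +kernel) t c).mul_right (c2 t d')) hm
  rw [M.mul_mem_cancel_left (hE.mem_co.mp (e3 ▸ b1))] at hm
  exact e1 ▸ mem_of_zsmul_mem 3 (h2 _ rfl) (hE.isolate 3 (r := 4) (k := 8) (N := -2)
    (by decide +kernel) (hE.one_mem_co h1 4) (fun t => hE.commute_nat 3 (by decide +kernel) t d')
    (fun t => hE.commute_nat 3 (by decide +kernel) t d') hm)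

lemma good_F4 {R : RootSys chevF4} {E : Elts R.toRS F (GL chevF4.Idx F)} (hE : IsMat R E)
    {M : Subgroup (GL chevF4.Idx F)} [Finite M] (h1 : ∀ r, E.x r 1 ∈ M) :
    ∃ A : Subfield F, (∀ t, t ∈ A ↔ t ∈ hE.co M 47) ∧ Good E M A := by
  have hD : chevF4 ∈ [chevG2, chevB2, chevD4, chevF4, chevE6, chevE7, chevE8] := by simp
  obtain ⟨A, a1, a2⟩ := hE.exists_long h1 (a := 24) (b := 46) (θ := 47) (by decide +kernel)
    (by decide +kernel) (by decide +kernel)
  have a3 := hE.le_co_of_torus h1 (a := 25) (b := 27) (by decide +kernel)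
    (hE.le_co_of_torus h1 (a := 24) (b := 25) (by decide +kernel) a2)
  refine ⟨A, a1, hE.good_of hD h1 (hE.XA_le h1 (L := [1, 3]) (by simpa using ⟨a3, a2⟩) 1
    (by decide +kernel)) (exc := [44]) (by decide +kernel) (fun t => (a1 t).mpr)
    fun f hf γ hγ h => ?_⟩
  rw [List.mem_singleton] at h
  by_cases hp : p = 2
  swap
  · exact hE.stepOK_of_head h1 hD f (P := fun N => N.natAbs == 2) (fun N hN =>
      intCast_ne_zero_of_ne p 2 Nat.prime_two hp (beq_iff_eq.mp hN)) (r := 27) (by decide +kernel) hγ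
      (by rw [h]; decide +kernel)
  subst hp
  refine hE.stepOK_of_mem hf h fun c u hu hm => ?_
  have b1 := hE.isolate 2 (r := 14) (k := 40) (N := 1) (by decide +kernel) (hE.one_mem_co h1 14)
    (hE.commute_up 2 (by decide +kernel) hu) (hE.commute_up 2 (by decide +kernel) hu) hm
  rw [Int.cast_one, one_mul] at b1
  have := hE.finite_of_co (by decide) a1
  have b2 := hE.word_mem₀ (r := 27) (s := 25) (L := [(28, -1, 1, 1), (30, -1, 2, 1)])
    (by decide +kernel) (hE.co_pair h1 (a := 40) (b := 27) (by decide +kernel) ▸ b1)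
    (hE.one_mem_co h1 25)
  simp only [List.map_cons, List.map_nil, List.prod_cons, List.prod_nil, Int.cast_one,
    Int.cast_neg, one_mul, mul_one, pow_one, neg_mul] at b2
  rw [M.mul_mem_cancel_left (hE.mem_co.mp (neg_mem (hE.co_pair h1 (a := 40) (b := 28)
    (by decide +kernel) ▸ b1))), ← hE.mem_co, neg_mem_iff,
    hE.co_pair h1 (b := 46) (by decide +kernel), hE.co_pair h1 (b := 47) (by decide +kernel)] at b2
  exact mem_of_pow_mem 2 ((a1 _).mpr b2)

lemma good_B2 {R : RootSys chevB2} {E : Elts R.toRS F (GL chevB2.Idx F)} (hE : IsMat R E)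
    {M : Subgroup (GL chevB2.Idx F)} [Finite M] (h1 : ∀ r, E.x r 1 ∈ M) :
    ∃ A : Subfield F, (∀ t, t ∈ A ↔ t ∈ hE.co M 7) ∧ Good E M A := by
  have hD : chevB2 ∈ [chevG2, chevB2, chevD4, chevF4, chevE6, chevE7, chevE8] := by simp
  have e1 : hE.co M 7 = hE.co M 4 := hE.co_reflect h1 (i := 0) (r := 4) (by decide)
  have e2 : hE.co M 6 = hE.co M 5 := hE.co_reflect h1 (i := 1) (r := 5) (by decide)
  have := hE.finite_co (M := M) (r := 7) (by decide)
  suffices ∃ A : Subfield F, (∀ t, t ∈ A ↔ t ∈ hE.co M 7) ∧ (∀ t ∈ A, t ∈ hE.co M 6) ∧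
      ∀ f, Elts.fixF f = A → ∀ γ : Fin chevB2.nroots, R.Pos γ → (γ : ℕ) = 6 → StepOK E M f γ by
    obtain ⟨A, a1, a2, a3⟩ := this
    exact ⟨A, a1, hE.good_of hD h1 (hE.XA_le h1 (L := [0, 1])
      (by simpa using ⟨e2 ▸ a2, fun t ht => e1 ▸ (a1 t).mp ht⟩) 0 (by decide +kernel)) (exc := [6])
      (by decide +kernel) (fun t => (a1 t).mpr) (by simpa using a3)⟩
  by_cases hp : p = 2
  swap
  · have h2 : ∀ N : ℤ, (N.natAbs == 2) = true → (N : F) ≠ 0 := fun N hN =>
      intCast_ne_zero_of_ne p 2 Nat.prime_two hp (beq_iff_eq.mp hN)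
    have b1 : ∀ t ∈ hE.co M 6, ∀ u ∈ hE.co M 6, t * u ∈ hE.co M 7 := fun t ht u hu =>
      mem_of_zsmul_mem p (h2 2 rfl) (by
        simpa [IsMat.mem_co, mul_assoc] using hE.word_mem₀ (r := 5) (s := 6) (L := [(7, 2, 1, 1)])
          (by decide +kernel) (e2 ▸ ht) hu)
    have b2 : ∀ u ∈ hE.co M 7, u ∈ hE.co M 6 := fun u hu => by
      have w := fun t ht => hE.word_mem₀ (r := 5) (s := 4) (L := [(6, -1, 1, 1), (7, -1, 2, 1)])
        (by decide +kernel) (t := t) ht (e1 ▸ hu)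
      have := M.mul_mem (w _ (neg_mem (hE.one_mem_co h1 5))) (M.inv_mem (w _ (hE.one_mem_co h1 5)))
      simp only [List.map_cons, List.map_nil, List.prod_cons, List.prod_nil, Int.cast_one,
        Int.cast_neg, one_mul, mul_one, pow_one, neg_mul, neg_neg, neg_one_sq, one_pow, mul_neg,
        mul_inv_rev, mul_assoc, mul_inv_cancel_left] at this
      refine mem_of_zsmul_mem p (h2 2 rfl) ?_
      rw [Int.cast_ofNat]
      rwa [show (hE.facts.xU 6 (-u))⁻¹ = hE.facts.xU 6 (- -u) from Units.ext rfl, neg_neg,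
        hE.xU_add (by decide), ← two_mul] at this
    obtain ⟨A, hA⟩ := exists_subfield (hE.one_mem_co h1 7) fun t ht u hu =>
      b1 t (b2 t ht) u (b2 u hu)
    exact ⟨A, hA, fun t ht => b2 t ((hA t).mp ht), fun f _ γ hγ h =>
      hE.stepOK_of_head h1 hD f h2 (r := 5) (by decide +kernel) hγ (by rw [h]; decide +kernel)⟩
  subst hp
  have cm : ∀ {r s : ℕ}, (r < chevB2.nroots ∧ s < chevB2.nroots ∧ s ≠ r ∧ s ≠ chevB2.neg r ∧
      modTerms chevB2 2 r s = []) → _ := hE.commute_nat 2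
  have add : ∀ q q' : F × F, hE.facts.xU 6 (q + q').1 * hE.facts.xU 7 (q + q').2 =
      hE.facts.xU 6 q.1 * hE.facts.xU 7 q.2 * (hE.facts.xU 6 q'.1 * hE.facts.xU 7 q'.2) :=
    fun q q' => by
      rw [(cm (by decide +kernel) _ _).mul_mul_mul_comm, hE.xU_add (by decide), hE.xU_add (by decide)]
      rfl
  have z : ∀ r < chevB2.nroots, hE.facts.xU r 0 = 1 := fun r hr => hE.facts.stRel.x_zero hr
  let P : AddSubgroup (F × F) :=
    { carrier := {q | hE.facts.xU 6 q.1 * hE.facts.xU 7 q.2 ∈ M}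
      zero_mem' := by simp [z 6 (by decide), z 7 (by decide)]
      add_mem' := fun {a b} ha hb => by rw [Set.mem_ofPred_eq, add]; exact M.mul_mem ha hb
      neg_mem' := fun {a} ha => by rwa [CharTwo.neg_eq] }
  have hP : ∀ c d, (c, d) ∈ P ↔ hE.facts.xU 6 c * hE.facts.xU 7 d ∈ M := fun _ _ => Iff.rfl
  have : Finite P := Finite.of_injective (fun q => (⟨_, q.2⟩ : M)) fun a b e => by
    have e' := add a.1 (-b.1)
    rw [show hE.facts.xU 6 a.1.1 * hE.facts.xU 7 a.1.2 = _ from congrArg Subtype.val e, ← add,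
      add_neg_cancel, Prod.fst_zero, Prod.snd_zero, z 6 (by decide), z 7 (by decide), one_mul] at e'
    have := hE.faith.eq_zero_of_prod (Q := [(⟨6, by decide⟩, (a.1 + -b.1).1),
      (⟨7, by decide⟩, (a.1 + -b.1).2)]) (by simp)
      (by simp only [← R.isPosRoot_iff, List.forall_mem_cons]
          exact ⟨by decide +kernel, by decide +kernel, by simp⟩)
      (by simpa only [hE.x_eq_xU, List.map_cons, List.map_nil, List.prod_cons, List.prod_nil,
        mul_one] using e')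
    simp only [List.forall_mem_cons] at this
    exact Subtype.ext (add_neg_eq_zero.mp (Prod.ext this.1 this.2.1))
  have key : ∀ c ∈ P.map (AddMonoidHom.fst F F), ∀ d' ∈ P.map (AddMonoidHom.snd F F),
      (c * d', c ^ 2 * d') ∈ P := by
    rintro _ ⟨⟨c, d⟩, hc, rfl⟩ _ ⟨⟨c', d'⟩, hd, rfl⟩
    have b1 : hE.facts.xU 5 c' * hE.facts.xU 3 d' ∈ M := hE.reflect_two h1 (i := 1) (a := 6) (b := 4)
      (by decide) (hE.reflect_two h1 (i := 0) (by decide) hd)
    have b2 := hE.comm_nat 2 (r := 6) (s := 3) (by decide +kernel) c d'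
    rw [show modTerms chevB2 2 6 3 = [(5, -1, 1, 1), (7, 1, 2, 1)] by decide +kernel] at b2
    simp only [List.map_cons, List.map_nil, List.prod_cons, List.prod_nil, Int.cast_one,
      Int.cast_neg, one_mul, mul_one, pow_one, CharTwo.neg_eq] at b2
    refine hE.reflect_two h1 (i := 1) (a := 5) (b := 7) (by decide) ?_
    convert M.mul_mem (M.inv_mem (M.mul_mem ((hP c d).mp hc) b1)) (M.mul_mem b1 ((hP c d).mp hc))
      using 1
    have b3 : Commute (hE.facts.xU 7 d) (hE.facts.xU 5 (c * d') * hE.facts.xU 7 (c ^ 2 * d')) :=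
      (cm (by decide +kernel) _ _).mul_right (by
        rw [Commute, SemiconjBy, hE.xU_add (by decide), hE.xU_add (by decide), add_comm])
    rw [eq_inv_mul_iff_mul_eq, mul_assoc (hE.facts.xU 5 c'), ← mul_assoc (hE.facts.xU 3 d'), b2,
      mul_assoc _ _ (hE.facts.xU 7 d), ← b3.eq, ← mul_assoc _ (hE.facts.xU 7 d),
      mul_assoc (hE.facts.xU 6 c) (hE.facts.xU 3 d'), (cm (r := 3) (s := 7) (by decide +kernel) _ _).eq,
      ← mul_assoc (hE.facts.xU 6 c), ← mul_assoc (hE.facts.xU 5 c'), ← mul_assoc (hE.facts.xU 5 c'),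
      ((cm (r := 5) (s := 6) (by decide +kernel) c' c).mul_right
        (cm (r := 5) (s := 7) (by decide +kernel) c' d)).eq]
    simp only [mul_assoc]
    rfl
  generalize hC : P.map (AddMonoidHom.fst F F) = C at key
  generalize hC' : P.map (AddMonoidHom.snd F F) = C' at key
  have m1 : ∀ {c d}, (c, d) ∈ P → c ∈ C := fun h => hC ▸ ⟨_, h, rfl⟩
  have m2 : ∀ {c d}, (c, d) ∈ P → d ∈ C' := fun h => hC' ▸ ⟨_, h, rfl⟩
  have o1 : ∀ d, (0, d) ∈ P ↔ d ∈ hE.co M 7 := fun d => by rw [hP, z 6 (by decide), one_mul]; rfl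
  have o2 : ∀ c, (c, 0) ∈ P ↔ c ∈ hE.co M 6 := fun d => by rw [hP, z 7 (by decide), mul_one]; rfl
  have i1 := m1 ((o2 1).mpr (hE.one_mem_co h1 6))
  have i2 := m2 ((o1 1).mpr (hE.one_mem_co h1 7))
  have f1 : Finite C := hC ▸ ((Set.toFinite (P : Set (F × F))).image Prod.fst).to_subtype
  have l1 : ∀ d ∈ C', d ∈ C := fun d hd => by simpa using m1 (key 1 i1 d hd)
  have l2 : ∀ c ∈ C, c ^ 2 ∈ C' := fun c hc => by simpa using m2 (key c hc 1 i2)
  have l3 : ∀ c ∈ C, c ∈ C' := fun c hc => by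
    obtain ⟨b, hb⟩ := Finite.surjective_of_injective (f := fun b : C => (⟨_, l1 _ (l2 b b.2)⟩ : C))
      (fun b c e => Subtype.ext (frobenius_inj F 2 (congrArg Subtype.val e))) ⟨c, hc⟩
    have e : b.1 ^ 2 = c := congrArg Subtype.val hb
    exact e ▸ l2 b b.2
  obtain ⟨A, hA⟩ := exists_subfield i1 fun a ha b hb => m1 (key a ha b (l3 b hb))
  have l4 : ∀ t ∈ A, t ∈ hE.co M 7 := fun t ht => by
    by_cases h : ∃ c ∈ A, c ^ 2 + c ≠ 0
    · obtain ⟨c, hc, h⟩ := h
      have b1 := A.div_mem ht (A.add_mem (A.pow_mem hc 2) hc)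
      have := P.add_mem (key c ((hA c).mp hc) _ (l3 _ ((hA _).mp b1)))
        (key 1 i1 _ (l3 _ ((hA _).mp (A.mul_mem hc b1))))
      rwa [Prod.mk_add_mk, one_mul, one_pow, one_mul, CharTwo.add_self_eq_zero, ← add_mul,
        mul_div_cancel₀ _ h, o1] at this
    · push Not at h
      rcases mul_eq_zero.mp (show t * (t + 1) = 0 by rw [← h t ht]; ring) with e | e
      · rw [e]; exact zero_mem _
      · rw [eq_neg_of_add_eq_zero_left e]; exact neg_mem (hE.one_mem_co h1 7)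
  refine ⟨A, fun t => ⟨l4 t, fun h => (hA t).mpr (l1 t (m2 ((o1 t).mpr h)))⟩, fun t ht => ?_,
    fun f hf γ _ h => hE.stepOK_of_mem hf h fun c u hu hm => ?_⟩
  · have := P.add_mem (key 1 i1 t (l3 t ((hA t).mp ht))) ((o1 t).mpr (l4 t ht))
    rwa [Prod.mk_add_mk, one_pow, one_mul, add_zero, CharTwo.add_self_eq_zero, o2] at this
  · obtain ⟨d, v, hv, rfl⟩ := hE.exists_up (by decide) hu
    rw [IsMat.eq_one_up (by decide) hv, mul_one] at hm
    exact (hA c).mpr (m1 (d := d) hm)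

/-- A finite subgroup containing all `x_r(1)` contains the group over a finite subfield `A` and is
fixed by the field automorphisms with fixed field `A`. -/
theorem IsMat.exists_subfield_fix (hE : IsMat R E)
    (hD : D ∈ [chevG2, chevB2, chevD4, chevF4, chevE6, chevE7, chevE8]) {M : Subgroup (GL D.Idx F)}
    [Finite M] (hM : M ≤ E.Gp) (h1 : ∀ r, E.x r 1 ∈ M) : ∃ A : Subfield F, Finite A ∧
      (∀ t, t ∈ A ↔ t ∈ hE.co M (D.nroots - 1)) ∧ E.XA A Set.univ ≤ M ∧
      ∀ f, Elts.fixF f = A → ∀ m ∈ M, Matrix.GeneralLinearGroup.map f m = m := by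
  suffices ∃ A : Subfield F, (∀ t, t ∈ A ↔ t ∈ hE.co M (D.nroots - 1)) ∧ Good E M A by
    obtain ⟨A, a1, a2⟩ := this
    exact ⟨A, hE.finite_of_co (by
      have := (R.sim ⟨0, by have := H38.rank_pos hD; omega⟩).2
      omega) a1, a1, a2.1, fun f hf m => hE.fix_of_good hD p hM a2 hf⟩
  have hD' := hD
  simp only [List.mem_cons, List.not_mem_nil, or_false] at hD'
  rcases hD' with rfl | rfl | rfl | rfl | rfl | rfl | rfl
  exacts [good_G2 p hE h1, good_B2 p hE h1,
    hE.good_laced hD h1 (i := 1) (b := 22) (by decide +kernel) (by decide +kernel)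
      (by decide +kernel) (by decide +kernel) (by decide +kernel), good_F4 p hE h1,
    hE.good_laced hD h1 (i := 1) (b := 70) (by decide +kernel) (by decide +kernel)
      (by decide +kernel) (by decide +kernel) (by decide +kernel),
    hE.good_laced hD h1 (i := 0) (b := 124) (by decide +kernel) (by decide +kernel)
      (by decide +kernel) (by decide +kernel) (by decide +kernel),
    hE.good_laced hD h1 (i := 7) (b := 238) (by decide +kernel) (by decide +kernel)
      (by decide +kernel) (by decide +kernel) (by decide +kernel)]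

omit [Fact p.Prime] in
/-- A finite subfield is the fixed field of a power of the Frobenius map. -/
lemma exists_pow_eq (A : Subfield F) [Finite A] : ∃ n, 0 < n ∧ Nat.card A = p ^ n ∧
    ∀ t, t ∈ A ↔ t ^ p ^ n = t := by
  have := Fintype.ofFinite A
  obtain ⟨n, -, hn⟩ := FiniteField.card A p
  refine ⟨n, n.2, by rw [Nat.card_eq_fintype_card, hn], fun t => ⟨fun ht => ?_, fun ht => ?_⟩⟩
  · exact congrArg Subtype.val (hn ▸ FiniteField.pow_card (⟨t, ht⟩ : A))
  · classical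
    have h1 : 1 < p ^ (n : ℕ) := hn ▸ Fintype.one_lt_card
    have h2 := FiniteField.X_pow_card_sub_X_ne_zero F h1
    have h3 : (Finset.univ.map ⟨A.subtype, A.subtype_injective⟩ : Finset F) =
        (Polynomial.X ^ p ^ (n : ℕ) - Polynomial.X : Polynomial F).roots.toFinset :=
      Finset.eq_of_subset_of_card_le (fun a ha => by
        obtain ⟨a, -, rfl⟩ := Finset.mem_map.mp ha
        have e : (a : F) ^ p ^ (n : ℕ) = a := congrArg Subtype.val (hn ▸ FiniteField.pow_card a)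
        simpa [h2, sub_eq_zero] using e)
        ((Multiset.toFinset_card_le _).trans ((Polynomial.card_roots' _).trans (by
          rw [FiniteField.X_pow_card_sub_X_natDegree_eq F h1, Finset.card_map, Finset.card_univ, hn])))
    obtain ⟨a, -, rfl⟩ := Finset.mem_map.mp (h3 ▸ (by simpa [h2, sub_eq_zero] using ht) :
      t ∈ Finset.univ.map ⟨A.subtype, A.subtype_injective⟩)
    exact a.2

lemma dvd_of_fix_mem {a n : ℕ} (ha : 1 ≤ a) (hs : (Polynomial.X ^ p ^ a - Polynomial.X :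
    Polynomial F).Splits) {A : Subfield F} [Finite A] (hn : Nat.card A = p ^ n)
    (h : ∀ t, t ^ p ^ a = t → t ∈ A) : a ∣ n := by
  have hp : 1 < p := (Fact.out : p.Prime).one_lt
  have h1 := Polynomial.card_rootSet_eq_natDegree (K := F)
    (galois_poly_separable (K := F) p (p ^ a) (dvd_pow_self p (by omega))) (by simpa using hs)
  rw [FiniteField.X_pow_card_pow_sub_X_natDegree_eq F (by omega) hp, ← Nat.card_eq_fintype_card,
    show Polynomial.rootSet _ F = (Elts.fixF (iterateFrobenius F p a) : Set F) from Set.ext fun t => by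
      simp [Polynomial.mem_rootSet, FiniteField.X_pow_card_pow_sub_X_ne_zero F (show a ≠ 0 by omega) hp,
        Elts.mem_fixF, iterateFrobenius_def, sub_eq_zero]] at h1
  let _ := (Subfield.inclusion (show Elts.fixF (iterateFrobenius F p a) ≤ A from h)).toAlgebra
  have := Module.natCard_eq_pow_finrank (K := Elts.fixF (iterateFrobenius F p a)) (V := A)
  rw [hn, show Nat.card (Elts.fixF (iterateFrobenius F p a)) = _ from h1, ← pow_mul] at this
  exact ⟨_, Nat.pow_right_injective hp this⟩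

end types

end H38
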