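import Mathlib
import Cfsg.Agent.Lib.Twist.Tits
import Cfsg.Agent.Lib.Chev.FixCount

/-!
# Explicit elements of the Tits group
-/

set_option autoImplicit false
set_option linter.unusedSectionVars false
set_option maxRecDepth 100000

namespace H38

namespace TitsW

open H39 Cfsg Cfsg.Lie

/-- Four involutions of the Tits group. -/
def gT : List (List ℕ) := [[33, 24], [14, 23], [28, 30], [19, 17]]

/-- Equality check of words in the four involutions. -/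
noncomputable def eqT (w w' : List ℕ) : Bool := eqB 48 52 H39.tabF4 (ex gT w) (ex gT w')

/-- The power of a word. -/
def rp (k : ℕ) (w : List ℕ) : List ℕ := (List.replicate k w).flatten

/-- A way to evaluate words in four involutions in the Tits group. -/
structure Ev (L : List ℕ → TitsGroup) : Prop where
  nil : L [] = 1
  append : ∀ w w', L (w ++ w') = L w * L w'
  eq : ∀ w w', eqT w w' = true → L w = L w'
  ne : ∀ w B k, rkGe 48 52 H39.tabF4 (ex gT w) B [k] = true → L w ≠ 1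

theorem card_tits : Nat.card TitsGroup = 17971200 := by
  obtain ⟨a, b, c, h⟩ := exists_titsData
  exact h.card_commutator

theorem exists_ev : ∃ L, Ev L := by
  obtain ⟨a, b, c, hT⟩ := exists_titsData
  obtain ⟨R, E, hE, T, h, hA⟩ := exists_F4 (K := ZMod 2) (m := 0) rfl
  replace hA : twistedF4 (ZMod 2) 1 = _ := hA
  replace h : H39.IsF4 (ι := Fin chevF4.nroots) (R := R.toRS) T 1 := h
  let M := twModel hA
  have hg := F4I.gens_mem h hA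
  have eq : ∀ w w', eqB 48 52 H39.tabF4 w w' = true → w1 hE w = w1 hE w' := fun w w' =>
    tabOK_F4.w1_eq hE
  have key : ∀ w u, eqB 48 52 H39.tabF4 w (ex F4I.gens u) = true → eqB 48 52 H39.tabF4 (w ++ w) [] = true →
      w1 hE w ∈ (commutator (twistedF4 (ZMod 2) 1)).map M.f := by
    intro w u h1 h2
    obtain ⟨x, hx⟩ := M.lift (eq _ _ h1 ▸ w1_ex_mem hE hg u)
    exact ⟨x, hT.mem_commutator (M.inj (by
      rw [map_mul, hx, ← w1_append, eq _ _ h2, w1_nil, map_one])), hx⟩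
  have hI : ∀ w, ∃ x : TitsGroup, M.f x = w1 hE (ex gT w) := by
    intro w
    have : w1 hE (ex gT w) ∈ (commutator (twistedF4 (ZMod 2) 1)).map M.f := by
      refine w1_ex_mem hE (fun w hw => ?_) w
      simp only [gT, List.mem_cons, List.not_mem_nil, or_false] at hw
      rcases hw with rfl | rfl | rfl | rfl
      · exact key _ [0] (by decide +kernel) (by decide +kernel)
      · exact key _ [1] (by decide +kernel) (by decide +kernel)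
      · exact key _ [2, 2] (by decide +kernel) (by decide +kernel)
      · exact key _ [3, 3] (by decide +kernel) (by decide +kernel)
    obtain ⟨x, hx, e⟩ := this
    exact ⟨⟨x, hx⟩, e⟩
  choose L hL using hI
  have inj : ∀ x y : TitsGroup, M.f x = M.f y → x = y := fun x y e => Subtype.ext (M.inj e)
  refine ⟨L, inj _ _ ?_, fun w w' => inj _ _ ?_, fun w w' e => inj _ _ ?_, fun w B k e h1 => ?_⟩
  · rw [hL, OneMemClass.coe_one, map_one]; rfl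
  · rw [hL, Subgroup.coe_mul, map_mul, hL, hL, ← w1_append, ex, List.flatMap_append]; rfl
  · rw [hL, hL]; exact eq _ _ e
  · have := tabOK_F4.rank_ge hE e
    rw [← hL, h1, OneMemClass.coe_one, map_one, mt_one, sub_self, Matrix.rank_zero] at this
    simp at this

namespace Ev

variable {L : List ℕ → TitsGroup} (h : Ev L)
include h

theorem pow (k : ℕ) (w : List ℕ) : L (rp k w) = L w ^ k := by
  induction k with
  | zero => exact h.nil.trans (pow_zero _).symm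
  | succ k ih => rw [pow_succ', ← ih, ← h.append]; rfl

theorem pow_eq_one {k : ℕ} {w : List ℕ} (e : eqT (rp k w) [] = true) : L w ^ k = 1 := by
  rw [← h.pow, h.eq _ _ e, h.nil]

theorem conj {g x y : List ℕ} (e : eqT (g ++ x) (y ++ g) = true) : L g * L x * (L g)⁻¹ = L y := by
  rw [← h.append, h.eq _ _ e, h.append, mul_inv_cancel_right]

theorem comm {x y : List ℕ} (e : eqT (x ++ y) (y ++ x) = true) : Commute (L x) (L y) := by
  rw [Commute, SemiconjBy, ← h.append, h.eq _ _ e, h.append]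

theorem conj_all {p : ℕ} {x y : List ℕ} (c : List (List (List ℕ)))
    (e : ∀ i < p, ∀ j < p, i ≠ 0 ∨ j ≠ 0 → eqT ((c.getD i []).getD j [] ++ x)
      (rp i x ++ rp j y ++ (c.getD i []).getD j []) = true) :
    ∀ i < p, ∀ j < p, i ≠ 0 ∨ j ≠ 0 → IsConj (L x) (L x ^ i * L y ^ j) := fun i hi j hj hij =>
  isConj_iff.mpr ⟨_, (h.conj (e i hi j hj hij)).trans (by rw [h.append, h.pow, h.pow])⟩

end Ev

/-- Conjugating words for the elements of an elementary abelian group of order `25`. -/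
def c5 : List (List (List ℕ)) := [[[], [0, 1, 2, 0, 3, 2, 0, 1, 2, 0, 3, 1, 2, 0], [0, 1, 0, 2, 0, 2, 0, 2, 0, 3, 1, 0, 3, 1, 2, 0, 2], [1, 0, 1, 2, 0, 2, 0, 2, 0, 3, 1, 0, 3, 1, 2, 0], [0, 1, 2, 0, 3, 2, 0, 1, 2, 0, 3, 1, 2, 0, 2]], [[], [0, 1, 2, 0, 3, 1, 2, 0, 2, 0, 3, 1, 2, 0, 2], [2, 0, 1, 0, 2, 0, 2, 0, 2, 0, 3, 1, 0, 3, 1, 2, 0, 2], [2, 0, 1, 2, 0, 3, 1, 0, 3, 2, 0, 2, 0, 1, 2, 0, 1], [0, 1, 0, 2, 3, 2, 3, 1, 2, 0, 1, 2]], [[0, 1, 2, 3, 2, 0, 2, 0, 3, 1, 0, 2, 0, 2, 0], [2, 0, 1, 2, 0, 3, 1, 2, 0, 2, 0, 3, 1, 2, 0, 2], [1, 3, 0, 1, 2, 0, 1, 2, 3, 1, 3, 1, 0, 3, 1, 0, 2], [0, 2, 0, 2, 0, 3, 1, 3, 1, 2, 0, 1, 2, 0, 3, 2, 0], [2, 0, 1, 2, 0, 3, 2, 0, 1, 2, 0, 3, 1, 2, 0, 2]], [[0, 2, 0, 1, 2, 0, 1, 3, 2, 0, 2, 3, 1, 2, 0], [1, 2, 0, 3, 1, 2, 3, 1, 0, 3, 1, 2, 0, 3, 1], [0, 2, 0, 2, 0, 3, 1, 3, 2, 0, 1, 3, 2, 0, 3, 2, 0], [0, 1, 2, 0, 3, 1, 0, 3, 2, 0, 2, 0, 1,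 2, 0, 1], [1, 2, 0, 3, 1, 2, 0, 3, 1, 3, 1, 2, 0, 3, 1]], [[2], [0, 1, 0, 2, 3, 2, 3, 1, 2, 0, 1], [2, 1, 3, 0, 1, 2, 0, 1, 2, 3, 1, 3, 1, 0, 3, 1, 0, 2], [2, 1, 0, 1, 2, 0, 2, 0, 2, 0, 3, 1, 0, 3, 1, 2, 0], [0, 1, 2, 0, 3, 1, 2, 0, 2, 0, 3, 1, 2, 0]]]

/-- Conjugating words for the elements of an elementary abelian group of order `9`. -/
def c3 : List (List (List ℕ)) := [[[], [3, 1, 3, 1, 0, 1, 2, 3, 1, 2, 0, 1, 3, 2, 3, 1, 2, 3], [3, 2, 1, 3, 2, 0, 3, 1, 0, 2, 3, 1, 2, 0, 1, 3, 1, 3]], [[], [2, 0, 2, 0, 2, 0, 3, 2, 3, 1, 3, 1, 2, 3, 2, 0, 2, 3], [3, 2, 3, 0, 2, 0, 1, 0, 3, 2, 0, 3, 1, 3, 1, 3, 1, 3, 2]], [[0], [2, 3, 2, 0, 1, 0, 2, 3, 1, 0, 2, 3, 1, 0, 3, 1, 2, 3, 2], [2, 0, 2, 1, 0, 1, 3, 2, 0, 3, 1, 0, 2, 3, 2, 0, 3, 2]]]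

theorem five : ∃ a b : TitsGroup, orderOf a = 5 ∧ b ^ 5 = 1 ∧ Commute a b ∧
    ∀ i < 5, ∀ j < 5, i ≠ 0 ∨ j ≠ 0 → IsConj a (a ^ i * b ^ j) := by
  obtain ⟨L, h⟩ := exists_ev
  have := Fact.mk Nat.prime_five
  exact ⟨L [2, 3], L [1, 3, 1, 3, 0, 1, 2, 0, 3, 1, 0, 2, 0, 3, 1, 2, 0, 2, 0],
    orderOf_eq_prime (h.pow_eq_one (by decide +kernel)) (h.ne _ 1 1 (by decide +kernel)),
    h.pow_eq_one (by decide +kernel), h.comm (by decide +kernel), h.conj_all c5 (by decide +kernel)⟩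

theorem three : ∃ a b s t : TitsGroup, orderOf a = 3 ∧ b ^ 3 = 1 ∧ Commute a b ∧
    (∀ i < 3, ∀ j < 3, i ≠ 0 ∨ j ≠ 0 → IsConj a (a ^ i * b ^ j)) ∧ orderOf s = 13 ∧
    IsConj a t ∧ t * s * t⁻¹ = s ^ 3 := by
  obtain ⟨L, h⟩ := exists_ev
  have := Fact.mk (show Nat.Prime 13 by decide)
  exact ⟨L [0, 1], L [3, 2, 1, 3, 2, 1, 0, 2, 3, 1, 2, 3, 1, 0, 2, 0, 2, 3, 2, 3], L [0, 1, 2, 3],
    L [1, 0, 2, 3, 1, 2, 3, 1, 3, 1, 3, 2, 0, 2, 0, 2, 3, 1, 2],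
    orderOf_eq_prime (h.pow_eq_one (by decide +kernel)) (h.ne _ 2 0 (by decide +kernel)),
    h.pow_eq_one (by decide +kernel), h.comm (by decide +kernel), h.conj_all c3 (by decide +kernel),
    orderOf_eq_prime (h.pow_eq_one (by decide +kernel)) (h.ne _ 1 0 (by decide +kernel)),
    isConj_iff.mpr ⟨_, h.conj (g := [1, 0, 2, 0, 2, 3, 2, 3, 1, 0, 3, 1, 2, 0, 3]) (by decide +kernel)⟩,
    (h.conj (y := rp 3 [0, 1, 2, 3]) (by decide +kernel)).trans (h.pow _ _)⟩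

end TitsW

end H38
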