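import Mathlib
import Cfsg.Agent.Lib.Chev.TwOver
import Cfsg.Agent.Lib.Chev.OverTypes
import Cfsg.Agent.Lib.Twist.D4Mat
import Cfsg.Agent.Lib.Twist.E6Mat

/-!
Maximality of the rational points over the fixed field in the groups `²E₆(q)` and `³D₄(q)`.
-/

set_option autoImplicit false

namespace H38

open H39 Cfsg Cfsg.Lie

section fields

variable {K : Type*} [Field K] [Fintype K] (p : ℕ) [Fact p.Prime] [CharP K p] {a r : ℕ}

lemma card_fixF (ha : 1 ≤ a) (hr : 1 ≤ r) (hK : Fintype.card K = (p ^ a) ^ r) :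
    Nat.card (Elts.fixF (iterateFrobenius K p a)) = p ^ a := by
  have hp : 1 < p := (Fact.out : p.Prime).one_lt
  have hs := (FiniteField.isSplittingField_sub K K).splits
  rw [Algebra.algebraMap_self, Polynomial.map_id, hK, ← pow_mul] at hs
  have h1 := Polynomial.card_rootSet_eq_natDegree (K := K)
    (galois_poly_separable (K := K) p (p ^ a) (dvd_pow_self p (by omega))) (by
      simpa using hs.of_dvd (FiniteField.X_pow_card_pow_sub_X_ne_zero K (by nlinarith) hp)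
        (dvd_pow_pow_sub_self_of_dvd (Dvd.intro _ rfl)))
  rwa [FiniteField.X_pow_card_pow_sub_X_natDegree_eq K (by omega) hp, ← Nat.card_eq_fintype_card,
    show Polynomial.rootSet _ K = (Elts.fixF (iterateFrobenius K p a) : Set K) from Set.ext fun t => by
      simp [Polynomial.mem_rootSet, FiniteField.X_pow_card_pow_sub_X_ne_zero K (show a ≠ 0 by omega) hp,
        Elts.mem_fixF, iterateFrobenius_def, sub_eq_zero]] at h1

omit [Fintype K] in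
lemma eq_top_of_indep [Finite K] {A : Subfield K} {n : ℕ} (hK : Nat.card K = Nat.card A ^ n)
    {C : AddSubgroup K} (hC : ∀ c ∈ A, ∀ t ∈ C, c * t ∈ C) {v : Fin n → K} (hv : ∀ i, v i ∈ C)
    (h : ∀ g : Fin n → A, ∑ i, (g i : K) * v i = 0 → ∀ i, g i = 0) (t : K) : t ∈ C := by
  obtain ⟨g, rfl⟩ := (Function.Injective.bijective_of_nat_card_le
    (f := fun g : Fin n → A => ∑ i, (g i : K) * v i) (fun g g' e => funext fun i => sub_eq_zero.mp
      (h (g - g') (by simpa [sub_mul, sub_eq_zero] using e) i)) (by rw [Nat.card_fun, hK]; simp)).2 t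
  exact C.sum_mem fun i _ => hC _ (g i).2 _ (hv i)

end fields

section abstract

variable {ι l : Type} [Fintype l] [DecidableEq l] [Finite ι] {R : RS ι l} {K : Type*} [Field K]
  {G : Type*} [Group G] {E : Elts R K G} {T : Tw E} {Φ : G →* G} {f : K →+* K}

omit [Finite ι] in
lemma centerless_of (hG : E.Gp = ⊤) (hz : Subgroup.center G = ⊥) : H61.Centerless E :=
  fun g _ h => Subgroup.mem_bot.mp (hz ▸ Subgroup.mem_center_iff.mpr fun a =>
    E.XS_induction (P := fun a => a * g = g * a) (hG ▸ Subgroup.mem_top a : a ∈ E.Gp)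
      (fun r _ t => (h r t).symm) (by simp) fun a b _ _ => Commute.mul_left)

omit [Finite ι] in
lemma RS.wt_σ (R : RS ι l) (i j : l) (s : ι) : R.wt (R.σ i s) j = R.wt s j - R.wt s i * R.A j i := by
  rw [← R.refl_sim, R.wt_refl, R.pair_sim_left, R.wt_sim]

lemma TwF.exists_orth (h : TwF T Φ f) (i : l) : ∃ y ∈ E.XS (T.S.PJ i) ⊓ rat T Φ,
    ∃ y' ∈ E.XS (T.NJ i) ⊓ rat T Φ, E.Rep (y * y' * y) (T.S.wo i) := by
  obtain ⟨L, hL⟩ := h.orth i
  have a1 : ∀ j t, E.x (R.sim j) t ∈ E.XS {r | R.InSub {j} r} :=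
    fun j t => E.x_mem_XS (Tw.IsPM.inSub (Or.inl rfl) j) t
  have a2 : ∀ j t, E.x (R.neg (R.sim j)) t ∈ E.XS {r | R.InSub {j} r} :=
    fun j t => E.x_mem_XS (Tw.IsPM.inSub (p := fun j => R.neg (R.sim j)) (Or.inr rfl) j) t
  have a3 : ∀ (p : l → ι) c, f c = c → Φ (L.map fun j => E.x (p j) c).prod =
      (L.map fun j => E.x (p j) c).prod := fun p c hc => by
    simp only [map_list_prod, List.map_map, Function.comp_def, h.field _, hc]
  have b1 := (Tw.mem_PJ_iff hL).mpr ⟨fun _ => 1, by simp, rfl⟩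
  have b2 := (Tw.mem_NJ_iff hL).mpr ⟨fun _ => -1⁻¹, by simp, rfl⟩
  refine ⟨_, ⟨b1.1, b1.2, a3 _ _ (map_one f)⟩, _, ⟨b2.1, b2.2, a3 _ _ (by simp)⟩, ?_⟩
  rw [list_prod_mul_of_commute hL.nodup fun j hj k hk e =>
      commute_orth E e (hL.orth j hj k hk e) (a2 j _) (a1 k _),
    list_prod_mul_of_commute hL.nodup fun j hj k hk e =>
      commute_orth E e (hL.orth j hj k hk e) (a1 j _) (mul_mem (a1 k _) (a2 k _)), hL.wo_eq]
  exact E.rep_list L

lemma TwF.rat_ne [Finite K] (h : TwF T Φ f) {n : ℕ} (hn : 1 < n)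
    (hK : Nat.card K = Nat.card (Elts.fixF f) ^ n) {i : l} {L : List l} (hL : T.S.Orth i L)
    (hc : ∀ t, ∃ c : l → K, c i = t ∧ ∀ j ∈ L, c (T.ρ j) = f (c j)) : rat T Φ ≠ T.Γ := fun e => by
  have : Elts.fixF f = ⊤ := eq_top_iff.mpr fun t _ => by
    obtain ⟨c, rfl, hc⟩ := hc t
    have := (mem_rat.mp (e ▸ ((Tw.mem_PJ_iff hL).mpr ⟨c, by simpa [h.φ_eq] using hc, rfl⟩).2)).2
    simp only [map_list_prod, List.map_map, Function.comp_def, h.field _] at this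
    exact Tw.IsPM.prod_inj (Or.inl rfl) T.hF hL.nodup this i ((hL.mem i).mpr (T.S.mem_orb_self i))
  rw [this, Nat.card_congr Subfield.topEquiv.toEquiv] at hK
  exact (Nat.pow_lt_pow_right Finite.one_lt_card hn).ne ((pow_one _).trans hK)

namespace TwF

variable (h : TwF T Φ f) {H : Subgroup G} (h1 : rat T Φ ≤ H) (h2 : H ≤ T.Γ) {θ : ι}
  (hθ : R.IsTop θ) (hτ : T.S.τ θ = θ)
include h h1 h2 hθ hτ

lemma exists_pair (hl : ∀ r s, R.len r = R.len s) (hρ : ∀ i, T.ρ (T.ρ i) = i)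
    (hc : ∀ r, 0 < R.pair θ r → T.S.τ r ≠ r → ∃ β, T.S.τ β = β ∧ R.pair θ β = 0 ∧ R.pair β r = -1 ∧
      ∀ k, 0 < R.pair θ k → R.pair β k = -1 → k = r ∨ k = T.S.τ r ∨ T.S.τ k = k)
    {u : G} (hu : u ∈ H) (hu' : u ∈ E.UJ (R.perp θ)) (e : Φ u ≠ u) :
    ∃ i, T.ρ i ≠ i ∧ ∃ a ∈ E.XS (T.S.PJ i) ⊓ H, Φ a ≠ a := by
  have hττ : ∀ r, T.S.τ (T.S.τ r) = r := fun r => R.rt_inj (funext fun i => by
    rw [← h.rt_τ r, ← h.rt_τ (T.S.τ r) (T.ρ i), hρ])
  have hp : ∀ r, R.pair θ (T.S.τ r) = R.pair θ r := fun r => by rw [← h.pair_τ θ r, hτ]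
  suffices ∃ r, ∃ a ∈ E.XS {r, T.S.τ r} ⊓ H, Φ a ≠ a by
    obtain ⟨r, hr⟩ := this
    obtain ⟨w, hw, i, rfl⟩ := h.exists_sim r
    have hi : R.sim i ∈ T.S.PJ i := ⟨R.pos_sim i, R.inSub_sim.mpr (T.S.mem_orb_self i)⟩
    refine ⟨i, fun hi' => ?_, h.conj_ne h1 (inv_mem hw) (by
      rintro _ (rfl | rfl)
      · simpa using hi
      · simpa [← T.S.W1_apply hw, T.S.τ_mem_PJ] using hi) hr⟩
    obtain ⟨a, ha, e⟩ := hr
    have : T.S.τ (w (R.sim i)) = w (R.sim i) := by rw [← T.S.W1_apply hw, T.S.τ_sim, T.S_ρ, hi']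
    exact e (h.mem_rat_of_fix (by rintro _ (rfl | rfl) <;> simp only [this]) ha.1 (h2 ha.2)).2
  replace hu' : u ∈ E.XS {r | 0 < R.pair θ r} := E.mem_XS_mono hu' fun r => hθ.rad_iff.mp
  have hB : ∀ r ∈ {r | 0 < R.pair θ r}, 0 < R.pair θ r ∧ T.S.τ r ∈ {r | 0 < R.pair θ r} :=
    fun r hr => ⟨hr, by rwa [Set.mem_ofPred_eq, hp]⟩
  have hB' : θ ∈ {r | 0 < R.pair θ r} := by simp [R.pair_self]
  generalize {r | 0 < R.pair θ r} = B at hu' hB hB'
  induction hn : B.ncard using Nat.strong_induction_on generalizing B u with | _ n ih => ?_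
  by_cases hr : ∀ r ∈ B, T.S.τ r = r
  · exact (e (h.mem_rat_of_fix hr hu' (h2 hu)).2).elim
  push Not at hr
  obtain ⟨r, hr, hr'⟩ := hr
  obtain ⟨β, b1, b2, b3, b4⟩ := hc r (hB r hr).1 hr'
  have b5 : R.pair β θ = 0 := R.pair_eq_zero_comm.mp b2
  have b6 : ∀ s, R.pair θ (R.refl β s) = R.pair θ s := fun s => by
    rw [RS.pair, R.rt_refl, R.pv_sub, R.pv_smul, ← RS.pair, ← RS.pair, b2, mul_zero, sub_zero]
  have b7 : ∀ s, T.S.τ (R.refl β s) = R.refl β (T.S.τ s) := fun s => by rw [τ_refl, b1]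
  have s1 : ∀ s ∈ ({r, T.S.τ r} : Set ι), 0 < R.pair θ s ∧ R.pair β s = -1 := by
    rintro _ (rfl | rfl)
    exacts [⟨(hB _ hr).1, b3⟩, ⟨(hp r).symm ▸ (hB _ hr).1, by rw [← b3, ← h.pair_τ β r, b1]⟩]
  have s2 : ∀ s ∈ ({R.refl β r, T.S.τ (R.refl β r)} : Set ι), 0 < R.pair θ s ∧ R.pair β s = 1 := by
    rintro _ (rfl | rfl) <;> simp only [b7, b6, Elts.pair_refl_self]
    exacts [⟨(hB _ hr).1, by rw [b3]; rfl⟩, ⟨(s1 _ (Or.inr rfl)).1, by rw [(s1 _ (Or.inr rfl)).2]; rfl⟩]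
  have cl : ∀ (S : Set ι) (c : ℤ), c ≠ 0 → (∀ s ∈ S, 0 < R.pair θ s ∧ R.pair β s = c) → R.Closed S := by
    intro S c hc hS a ha b hb k hk
    have e0 : k = θ := (hθ.cone_rad (hS a ha).1 (hS b hb).1 (Set.mem_singleton θ)).2 hk
    obtain ⟨i, j, hi, hj, e⟩ := hk
    rw [← e0, RS.pair, e, R.pv_add, R.pv_smul, R.pv_smul, ← RS.pair, ← RS.pair, (hS a ha).2, (hS b hb).2,
      ← add_mul] at b5
    exact (mul_ne_zero (by omega) hc b5).elim
  have d1 : ∀ s ∈ B \ {r, T.S.τ r}, 0 < R.pair θ s ∧ T.S.τ s ∈ B \ {r, T.S.τ r} := fun s hs =>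
    ⟨(hB s hs.1).1, (hB s hs.1).2, fun e => hs.2 (e.symm.imp T.S.τ.injective.eq_iff.mp fun e => by
      rw [← e, hττ]; rfl)⟩
  have d2 : θ ∈ B \ {r, T.S.τ r} := ⟨hB', fun e => by have := (s1 θ e).2; omega⟩
  obtain ⟨a, ha, b, hb, rfl⟩ := split hθ (S := {r, T.S.τ r}) (fun s hs => ⟨(s1 s hs).1, by
      rcases hs with rfl | rfl <;> simp [hττ], fun e => e.2 hs⟩) (cl _ _ (by decide) s1) d1 d2
    (E.mem_XS_mono hu' fun s hs => (em _).imp_right fun e => ⟨hs, e⟩) (h2 hu)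
  by_cases e' : Φ a = a
  · refine ih _ (hn ▸ Set.ncard_lt_ncard ⟨Set.sdiff_subset, fun e => (e hr).2 (Or.inl rfl)⟩)
      ((Subgroup.mul_mem_cancel_left _ (h1 ⟨ha.2, e'⟩)).mp hu) (by
        rwa [map_mul, e', mul_ne_mul_right] at e) _ hb.1 d1 d2 rfl
  have ne : ∀ s, 0 < R.pair θ s → s ≠ R.neg β := fun s hs e => by
    rw [e, R.pair_neg_right, b2] at hs; omega
  have fx : ∀ s, 0 < R.pair θ s → (R.pair β s = -1 → T.S.τ s = s) →
      s ≠ R.neg β ∧ R.Cone β s ⊆ {k | 0 < R.pair θ k ∧ T.S.τ k = k} := fun s a1 a2 =>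
    ⟨ne s a1, fun k hk => by
      obtain ⟨a3, rfl⟩ := RS.cone_laced hl (ne s a1) hk
      exact ⟨(b6 s).symm ▸ a1, by rw [b7, a2 a3]⟩⟩
  refine ⟨_, h.core h1 h2 hθ (T1 := {k | 0 < R.pair θ k ∧ T.S.τ k = k}) (T2 := {θ}) (O := {β})
    (O' := {R.neg β}) (fun s hs => ⟨(s1 s hs).1, fun e => by have := (s1 s hs).2; have := (s2 s e).2; omega⟩)
    (cl _ _ (by decide) s1) (fun s hs => ⟨(s2 s hs).1, by rcases hs with rfl | rfl <;> simp [hττ],
      fun e => hr' ?_⟩) (cl _ _ (by decide) s2) (fun s hs => (d1 s hs).1) (fun _ h => h)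
    ⟨by simp [R.pair_self], hτ⟩ (by rintro _ rfl; exact ⟨by simp [R.pair_self], hτ⟩)
    (Set.mem_singleton _) ?_ ?_ ?_ ⟨E.x_mem_XS (Set.mem_singleton _) 1, h.x_mem b1 (map_one f)⟩
    ⟨E.x_mem_XS (Set.mem_singleton _) (-1⁻¹), h.x_mem (by rw [T.S.τ_neg, b1]) (by simp)⟩
    (E.rep_n β one_ne_zero)
    (by rintro _ (rfl | rfl) <;> simp [b7]) ha e' hb.1 hu⟩
  · rcases hs with rfl | rfl <;> simpa [b7, hττ, eq_comm] using e.2
  · rintro _ rfl s (hs | hs)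
    · exact fx s (d1 s hs).1 fun e => ((b4 s (d1 s hs).1 e).resolve_left
        fun e => hs.2 (Or.inl e)).resolve_left fun e => hs.2 (Or.inr e)
    · exact fx s hs.1 fun _ => hs.2
  · rintro _ rfl s (hs | hs | hs)
    · refine ⟨ne s (s1 s hs).1, fun k hk => Or.inl ?_⟩
      rw [(RS.cone_laced hl (ne s (s1 s hs).1) hk).2]
      rcases hs with rfl | rfl <;> simp [b7]
    · refine ⟨ne s (s2 s hs).1, fun k hk => ?_⟩
      have := (RS.cone_laced hl (ne s (s2 s hs).1) hk).1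
      have := (s2 s hs).2
      omega
    · exact (fx s hs.1 fun _ => hs.2).imp_right fun e => e.trans Set.subset_union_right
  · rintro _ rfl s hs
    have a1 : 0 < R.pair θ s ∧ R.pair β s ≤ 0 := by
      rcases hs with hs | rfl
      exacts [⟨(s1 s hs).1, by rw [(s1 s hs).2]; decide⟩, ⟨by simp [R.pair_self], b5.le⟩]
    have a2 : s ≠ R.neg (R.neg β) := fun e => by rw [e, R.neg_neg, b2] at a1; omega
    refine ⟨a2, fun k hk => ?_⟩
    have := (RS.cone_laced hl a2 hk).1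
    rw [R.pair_neg_left] at this; omega

end TwF

end abstract

section E6

variable {ι : Type} [Finite ι] {R : RS ι (Fin 6)} {K : Type*} [Field K] [Fintype K]
  {G : Type*} [Group G] {E : Elts R K G} {T : Tw E} {Φ : G →* G} {f : K →+* K} {q : ℕ}

theorem e6_max (h6 : IsE6 T q) (h : TwF T Φ f) (hK : Nat.card K = Nat.card (Elts.fixF f) ^ 2)
    {θ : ι} (hθ : R.IsTop θ) (hτ : T.S.τ θ = θ) (hi : 1 ∉ R.perp θ)
    (hc : ∀ r, 0 < R.pair θ r → T.S.τ r ≠ r → ∃ β, T.S.τ β = β ∧ R.pair θ β = 0 ∧ R.pair β r = -1 ∧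
      ∀ k, 0 < R.pair θ k → R.pair β k = -1 → k = r ∨ k = T.S.τ r ∨ T.S.τ k = k)
    {H : Subgroup G} (h1 : rat T Φ ≤ H) (h2 : H ≤ T.Γ) : H = rat T Φ ∨ H = T.Γ := by
  by_cases hQ : ∀ z ∈ H, z ∈ E.UJ (R.perp θ) → Φ z = z
  · exact Or.inl (h.eq_rat h1 h2 hθ hτ hQ hi (by rw [h6.hρ]; rfl))
  push Not at hQ
  obtain ⟨u, a1, a2, a3⟩ := hQ
  have hf : ∀ t, t ^ q = f t := fun t => (h6.hφ 0 t).symm.trans (h.φ_eq 0 t)
  have hP : ∀ i r, r ∈ T.S.PJ i ↔ ∃ j ∈ orbE6 i, R.sim j = r := fun i r => by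
    simp [(h6.orth i).PJ_eq, (h6.orth i).mem]
  have hw := mul_mem (T.S.wo_mem_W1 0) (T.S.wo_mem_W1 2)
  have hw' : ∀ r ∈ T.S.PJ 0, (T.S.wo 0 * T.S.wo 2) r ∈ T.S.PJ 2 := by
    simp only [hP, (h6.orth _).wo_eq, orbE6]
    rintro _ ⟨j, hj, rfl⟩
    simp only [Matrix.cons_val_zero, List.mem_cons, List.not_mem_nil, or_false] at hj
    rcases hj with rfl | rfl
    · refine ⟨2, by decide, R.wt_inj fun k => ?_⟩
      simp [R.s_apply, R.wt_σ, R.wt_sim, h6.hA]; revert k; decide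
    · refine ⟨4, by decide, R.wt_inj fun k => ?_⟩
      simp [R.s_apply, R.wt_σ, R.wt_sim, h6.hA]; revert k; decide
  have hi : ∀ i, T.ρ i ≠ i → T.S.PJ i = T.S.PJ 0 ∨ T.S.PJ i = T.S.PJ 2 := fun i hi => by
    simp only [Set.ext_iff, hP]
    rw [h6.hρ] at hi
    fin_cases i <;> simp [orbE6] at hi ⊢ <;> exact (hi rfl).elim
  obtain ⟨a, ha, a4⟩ : ∃ a ∈ E.XS (T.S.PJ 2) ⊓ H, Φ a ≠ a := by
    obtain ⟨i, b1, b2⟩ := h.exists_pair h1 h2 hθ hτ h6.len_eq (by rw [h6.hρ]; decide) hc a1 a2 a3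
    rcases hi i b1 with e | e <;> rw [e] at b2
    exacts [h.conj_ne h1 hw hw' b2, b2]
  have hm : ∀ g, g ∈ E.XS (T.S.PJ 2) ⊓ T.Γ ↔ ∃ t, g = E.x (R.sim 2) t * E.x (R.sim 4) (f t) :=
    fun g => by simpa only [hf, ← (h6.orth 2).PJ_eq] using h6.mem24 (Or.inl rfl) (Or.inl rfl)
  have cm : ∀ s t, Commute (E.x (R.sim 4) s) (E.x (R.sim 2) t) := fun s t =>
    commute_orth E (j := 4) (k := 2) (by decide) (by rw [h6.hA]; rfl) (E.x_mem_XS (R.inSub_sim.mpr (Set.mem_singleton _)) s)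
      (E.x_mem_XS (R.inSub_sim.mpr (Set.mem_singleton _)) t)
  let C : AddSubgroup K :=
    { carrier := {t | E.x (R.sim 2) t * E.x (R.sim 4) (f t) ∈ H}
      zero_mem' := by simp [E.x_zero]
      add_mem' := fun {s t} hs ht => by
        have := H.mul_mem hs ht
        rwa [(cm _ _).mul_mul_mul_comm, E.x_add, E.x_add, ← map_add] at this
      neg_mem' := fun {s} hs => by
        have := H.inv_mem hs
        rwa [mul_inv_rev, ← E.x_neg, ← E.x_neg, (cm _ _).eq, ← map_neg] at this }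
  have hr : ∀ t, f t = t → E.x (R.sim 2) t * E.x (R.sim 4) (f t) ∈ rat T Φ := fun t ht =>
    ⟨((hm _).mpr ⟨t, rfl⟩).2, by
      change Φ _ = _
      rw [map_mul, h.field, h.field, ht, ht]; rfl⟩
  obtain ⟨t, rfl⟩ := (hm a).mp ⟨ha.1, h2 ha.2⟩
  have key := eq_top_of_indep hK (C := C) (fun c hc t ht => ?_) (v := ![1, t])
    (Fin.forall_fin_two.mpr ⟨h1 (hr 1 (map_one f)), ha.2⟩) fun g e => ?_
  · have k2 : E.XS (T.S.PJ 2) ⊓ T.Γ ≤ H := fun g hg => by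
      obtain ⟨s, rfl⟩ := (hm g).mp hg
      exact key s
    refine Or.inr (le_antisymm h2 (h.le_of_PJ h1 h6.G1_eq fun i b1 => ?_))
    rcases hi i b1 with e | e <;> rw [e]
    exacts [h.conj_le h1 (inv_mem hw) (fun r hr => ⟨_, hw' r hr, by simp⟩) k2, k2]
  · by_cases h0 : c = 0
    · rw [h0, zero_mul]; exact zero_mem _
    have s3 : T.S.τ (R.sim 3) = R.sim 3 := by rw [T.S.τ_sim, T.S_ρ, h6.hρ]; rfl
    have hh : ∀ c ∈ Elts.fixF f, E.n (R.sim 3) c ∈ H := fun c hc => h1 (mul_mem (mul_mem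
      (h.x_mem s3 hc) (h.x_mem (by rw [T.S.τ_neg, s3]) (neg_mem (inv_mem hc)))) (h.x_mem s3 hc))
    have hh' : E.h (R.sim 3) c⁻¹ ∈ H := mul_mem (hh _ (inv_mem hc)) (hh _ (neg_mem (one_mem _)))
    have := mul_mem (mul_mem hh' ht) (inv_mem hh')
    rwa [← conj_mul, E.hconj _ _ (inv_ne_zero h0), E.hconj _ _ (inv_ne_zero h0), R.pair_sim_left,
      R.pair_sim_left, R.wt_sim, R.wt_sim, h6.hA, h6.hA, show matF 6 alE6 2 3 = -1 from rfl,
      show matF 6 alE6 4 3 = -1 from rfl, zpow_neg_one, inv_inv, ← Elts.mem_fixF.mp hc, ← map_mul,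
      Elts.mem_fixF.mp hc] at this
  · simp only [Fin.sum_univ_two, Matrix.cons_val_zero, Matrix.cons_val_one, mul_one] at e
    by_cases h0 : g 1 = 0
    · exact Fin.forall_fin_two.mpr ⟨by simpa [h0] using e, h0⟩
    refine (a4 (hr t (Elts.mem_fixF.mp ?_)).2).elim
    rw [show t = -g 0 / g 1 by field_simp [show (g 1 : K) ≠ 0 by simpa using h0]; linear_combination e]
    exact div_mem (neg_mem (g 0).2) (g 1).2

end E6

section tables

variable {D : ChevalleyDatum} {R : RootSys D} {K : Type*} [Field K] {G : Type*} [Group G]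
  {E : Elts R.toRS K G} {T : Tw E} {Φ : G →* G} {f : K →+* K}

lemma TwF.τ_tab (h : TwF T Φ f) {ρ τ : ℕ → ℕ} (hρ : ∀ i, (T.ρ i : ℕ) = ρ i)
    (hc : ∀ r < D.nroots, τ r < D.nroots ∧ ∀ i < D.rank, D.cartan (ρ i) (τ r) = D.cartan i r)
    (r : Fin D.nroots) : (T.S.τ r : ℕ) = τ r :=
  congrArg Fin.val (R.wt_inj (s := ⟨_, (hc r r.2).1⟩) fun i => by
    obtain ⟨i, rfl⟩ := T.ρ.surjective i
    rw [h.wt_τ, ← R.cartan_eq, ← R.cartan_eq, hρ, (hc r r.2).2 i i.2])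

/-- Sums of a root of `O` and a root of `A` lie in `S`. -/
def coneChk (D : ChevalleyDatum) (O A S : List ℕ) : Bool :=
  O.all fun a => A.all fun r => r != D.neg a && allLt D.nroots fun k =>
    !(allLt D.rank fun i => D.cartan i k == D.cartan i a + D.cartan i r) || S.contains k

lemma cone_of_chk (hl : ∀ r s, R.len r = R.len s) {O A S : List ℕ} (h : coneChk D O A S = true) :
    ∀ a ∈ rset D O, ∀ r ∈ rset D A, r ≠ R.neg a ∧ R.Cone a r ⊆ rset D S := by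
  simp only [coneChk, List.all_eq_true, Bool.and_eq_true, allLt_iff, Bool.or_eq_true, bne_iff_ne,
    Bool.not_eq_true', ← Bool.not_eq_true, beq_iff_eq, List.contains_iff_mem] at h
  intro a ha r hr
  have h1 : r ≠ R.neg a := fun e => (h a ha r hr).1 (e ▸ R.neg_eq a)
  refine ⟨h1, fun k hk => ((h a ha r hr).2 k k.2).resolve_left (not_not.mpr fun i hi => ?_)⟩
  obtain ⟨a1, rfl⟩ := RS.cone_laced hl h1 hk
  rw [R.cartan_eq ⟨i, hi⟩, R.cartan_eq ⟨i, hi⟩, R.cartan_eq ⟨i, hi⟩, R.wt_refl, a1]; ring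

lemma rset_append (A B : List ℕ) : rset D (A ++ B) = rset D A ∪ rset D B :=
  Set.ext fun _ => List.mem_append

lemma StRel.swap (X : StRel D K G) (s r : ℕ) (h : r < D.nroots ∧ s < D.nroots ∧ s ≠ r ∧
    s ≠ D.neg r ∧ D.commTerms r s = []) (t u : K) (g : G) :
    X.x s u * (X.x r t * g) = X.x r t * (X.x s u * g) := by
  rw [← mul_assoc, X.comm r h.1 s h.2.1 h.2.2.1 h.2.2.2.1 t u]
  simp [ChevalleyDatum.commWord, h.2.2.2.2, mul_assoc]

lemma StRel.move (X : StRel D K G) (s r k : ℕ) (N : ℤ) (h : r < D.nroots ∧ s < D.nroots ∧ s ≠ r ∧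
    s ≠ D.neg r ∧ D.commTerms r s = [(k, N, 1, 1)]) (h' : k < D.nroots ∧ s < D.nroots ∧ s ≠ k ∧
    s ≠ D.neg k ∧ D.commTerms k s = []) (t u : K) (g : G) :
    X.x s u * (X.x r t * g) = X.x r t * (X.x k (-(N * t * u)) * (X.x s u * g)) := by
  rw [← mul_assoc, X.comm r h.1 s h.2.1 h.2.2.1 h.2.2.2.1 t u, ← X.swap s k h']
  simp [ChevalleyDatum.commWord, h.2.2.2.2, mul_assoc]

end tables

section D4

variable {R : RootSys chevD4} {K : Type*} [Field K] [Fintype K] {G : Type*} [Group G]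
  {E : Elts R.toRS K G} {T : Tw E} {Φ : G →* G} {f : K →+* K} {q : ℕ}

/-- The triality on the roots. -/
def τD4 (r : ℕ) : ℕ :=
  [0, 1, 6, 2, 7, 10, 3, 8, 4, 9, 11, 5, 18, 12, 14, 19, 15, 20, 13, 16, 21, 17, 22, 23].getD r 0

/-- The nodes of the diagram. -/
def nD4 (i : Fin 4) : Fin chevD4.rank := i

omit [Fintype K] in
lemma d4_conj (X : StRel chevD4 K G) (t t2 t3 : K) (g : G) :
    X.x 18 t * (X.x 13 t2 * X.x 12 t3) * X.x 14 1 * g = X.x 14 1 * (X.x 19 (-t) * (X.x 16 t2 *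
      X.x 15 t3) * (X.x 17 (t2 * t3) * (X.x 20 (-(t3 * t)) * X.x 21 (-(t2 * t))) *
      (X.x 22 (-(t3 * t2 * t)) * X.x 23 (-(t3 * t2 * t))))) *
      (X.x 18 t * (X.x 13 t2 * X.x 12 t3) * g) := by
  simp only [mul_assoc]
  rw [X.move 12 14 15 (-1) (by decide +kernel) (by decide +kernel),
    X.move 13 14 16 (-1) (by decide +kernel) (by decide +kernel),
    X.move 13 15 17 (-1) (by decide +kernel) (by decide +kernel),
    X.move 18 14 19 1 (by decide +kernel) (by decide +kernel),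
    X.move 18 16 21 1 (by decide +kernel) (by decide +kernel),
    X.move 18 15 20 1 (by decide +kernel) (by decide +kernel),
    X.move 18 17 22 1 (by decide +kernel) (by decide +kernel),
    X.move 21 15 23 (-1) (by decide +kernel) (by decide +kernel),
    X.swap 23 21 (by decide +kernel), X.swap 23 20 (by decide +kernel),
    X.swap 23 17 (by decide +kernel), X.swap 23 22 (by decide +kernel),
    X.swap 21 20 (by decide +kernel), X.swap 21 17 (by decide +kernel),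
    X.swap 20 17 (by decide +kernel)]
  simp [mul_comm t2 t3, mul_assoc]

theorem d4_max (h4 : IsD4 (ι := Fin chevD4.nroots) (R := R.toRS) T q) (h : TwF T Φ f)
    (hK : Nat.card K = Nat.card (Elts.fixF f) ^ 3) (X : StRel chevD4 K G)
    (hX : ∀ r t, E.x r t = X.x r t) {H : Subgroup G} (h1 : rat T Φ ≤ H) (h2 : H ≤ T.Γ) :
    H = rat T Φ ∨ H = T.Γ := by
  have ht := h.τ_tab (ρ := fun i => [2, 1, 3, 0].getD i 0) (τ := τD4) (by rw [h4.hρ]; decide)
    (by decide +kernel)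
  obtain ⟨θ, hθ'⟩ : ∃ θ : Fin chevD4.nroots, (θ : ℕ) = 23 := ⟨⟨23, by decide⟩, rfl⟩
  have hθ := R.isTop (θ := θ) hθ'
  have hτ : T.S.τ θ = θ := Fin.ext (by rw [ht, hθ']; rfl)
  by_cases hQ : ∀ z ∈ H, z ∈ E.UJ (R.perp θ) → Φ z = z
  · refine Or.inl (h.eq_rat h1 h2 hθ hτ hQ (i := nD4 1) (fun e => ?_) (by rw [h4.hρ]; rfl))
    have : R.pair θ (R.sim (nD4 1)) = 0 := e
    rw [← R.pairing_eq, R.sim_eq, hθ'] at this
    exact absurd this (by decide +kernel)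
  push Not at hQ
  obtain ⟨u, a1, a2, a3⟩ := hQ
  have hf : ∀ t, t ^ q = f t := fun t => (h4.hφ 0 t).symm.trans (h.φ_eq (nD4 0) t)
  have hl := h4.len_eq
  have o0 : T.S.Orth (nD4 0) [nD4 0, nD4 2, nD4 3] := h4.orth 0
  have o1 : T.S.Orth (nD4 1) [nD4 1] := h4.orth 1
  have hP : T.S.PJ (nD4 0) = rset chevD4 [18, 13, 12] := Set.ext fun r => by
    simp only [o0.PJ_eq, ← o0.mem, Set.mem_image, Fin.ext_iff, R.sim_eq, rset,
      Set.mem_ofPred_eq]
    revert r; decide +kernel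
  have hN : T.NJ (nD4 0) = rset chevD4 [5, 10, 11] := Set.ext fun r => by
    simp only [Tw.NJ_eq o0, ← o0.mem, Set.mem_image, Fin.ext_iff, R.sim_eq, rset,
      Set.mem_ofPred_eq, R.neg_eq]
    revert r; decide +kernel
  have w0 : ∀ r, (T.S.wo (nD4 0) r : ℕ) =
      chevD4.reflectRoot 0 (chevD4.reflectRoot 2 (chevD4.reflectRoot 3 r)) := fun r => by
    rw [o0.wo_eq]
    change (R.s (nD4 0) (R.s (nD4 2) (R.s (nD4 3) r)) : ℕ) = _
    rw [R.s_val, R.s_val, R.s_val]; rfl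
  have w1 : ∀ r, (T.S.wo (nD4 1) r : ℕ) = chevD4.reflectRoot 1 r := fun r => by
    rw [o1.wo_eq]
    exact R.s_val (nD4 1) r
  have sp : ∀ {S B : List ℕ}, ((∀ r < 24, r ∈ S → 0 < chevD4.pairing 23 r ∧ τD4 r ∈ S ∧ r ∉ B) ∧
      coneChk chevD4 S S S = true ∧ (∀ r < 24, r ∈ B → 0 < chevD4.pairing 23 r ∧ τD4 r ∈ B) ∧
      23 ∈ B) → ∀ u ∈ E.XS (rset chevD4 (S ++ B)), u ∈ T.Γ →
      ∃ a ∈ E.XS (rset chevD4 S) ⊓ T.Γ, ∃ b ∈ E.XS (rset chevD4 B) ⊓ T.Γ, u = a * b :=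
    fun hc u hu => TwF.split hθ (fun r hr => by
      simpa only [rset, Set.mem_ofPred_eq, ← R.pairing_eq, ht, hθ'] using hc.1 r r.2 hr)
      (fun a ha r hr => (cone_of_chk hl hc.2.1 a ha r hr).2) (fun r hr => by
      simpa only [rset, Set.mem_ofPred_eq, ← R.pairing_eq, ht, hθ'] using hc.2.2.1 r r.2 hr)
      (by simpa only [rset, Set.mem_ofPred_eq, hθ'] using hc.2.2.2) (rset_append _ _ ▸ hu)
  have fx : ∀ {S : List ℕ}, (∀ r ∈ S, τD4 r = r) → ∀ u ∈ E.XS (rset chevD4 S) ⊓ T.Γ,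
      u ∈ rat T Φ := fun hS u hu =>
    h.mem_rat_of_fix (fun r hr => Fin.ext ((ht r).trans (hS r hr))) hu.1 hu.2
  obtain ⟨a, ha, a4⟩ : ∃ a ∈ E.XS (rset chevD4 [17, 20, 21]) ⊓ H, Φ a ≠ a := by
    obtain ⟨a, ha, v, hv, rfl⟩ := sp (S := [14]) (B := [15, 16, 19] ++ [17, 20, 21, 22, 23])
      (by decide +kernel) u (E.mem_XS_mono a2 fun r hr => by
        have := hθ.rad_iff.mp hr
        rw [← R.pairing_eq, hθ'] at this
        revert this; simp only [rset, Set.mem_ofPred_eq]; clear hr; revert r; decide +kernel) (h2 a1)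
    replace ha := fx (by decide) a ha
    rw [map_mul, (mem_rat.mp ha).2, mul_ne_mul_right] at a3
    rw [H.mul_mem_cancel_left (h1 ha)] at a1
    obtain ⟨b, hb, w, hw, rfl⟩ := sp (by decide +kernel) v hv.1 hv.2
    by_cases e : Φ b = b
    · rw [map_mul, e, mul_ne_mul_right] at a3
      rw [H.mul_mem_cancel_left (h1 ⟨hb.2, e⟩)] at a1
      obtain ⟨c, hc, z, hz, rfl⟩ := sp (S := [17, 20, 21]) (B := [22, 23]) (by decide +kernel) w
        hw.1 hw.2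
      replace hz := fx (by decide) z hz
      rw [map_mul, (mem_rat.mp hz).2, mul_ne_mul_left] at a3
      exact ⟨c, ⟨hc.1, (H.mul_mem_cancel_right (h1 hz)).mp a1⟩, a3⟩
    obtain ⟨y, hy, y', hy', hn⟩ := h.exists_orth (nD4 0)
    refine h.core h1 h2 hθ (T1 := rset chevD4 [22, 23]) (T2 := rset chevD4 [14, 23]) ?_
      (fun a ha r hr => (cone_of_chk hl (by decide +kernel) a ha r hr).2) ?_
      (fun a ha r hr => (cone_of_chk hl (by decide +kernel) a ha r hr).2) ?_ ?_ ?_ ?_ ?_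
      ?_ ?_ ?_ (hP ▸ hy) (hN ▸ hy') hn ?_ hb e hw.1 a1 <;> try simp only [← rset_append]
    all_goals first
      | exact cone_of_chk hl (by decide +kernel)
      | simp only [rset, Set.mem_ofPred_eq, ← R.pairing_eq, ht, hθ', w0, Fin.ext_iff]; decide +kernel
  have hm : ∀ g, g ∈ E.XS (T.S.PJ (nD4 0)) ⊓ T.Γ ↔ ∃ t, g = E.x (R.sim (nD4 0)) t *
      (E.x (R.sim (nD4 2)) (f t) * E.x (R.sim (nD4 3)) (f (f t))) := fun g => by
    simp only [← hf, ← pow_mul, ← sq, o0.PJ_eq]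
    exact h4.mem023 (Or.inl rfl) (Or.inl rfl)
  have cm : ∀ i j : Fin 4, (i ≠ j ∧ matF 4 alD4 j i = 0) → ∀ s t,
      Commute (E.x (R.sim (nD4 i)) s) (E.x (R.sim (nD4 j)) t) := fun i j e s t =>
    commute_orth E (j := nD4 i) (k := nD4 j) e.1 ((h4.hA i j).trans e.2)
      (E.x_mem_XS (R.inSub_sim.mpr (Set.mem_singleton _)) s)
      (E.x_mem_XS (R.inSub_sim.mpr (Set.mem_singleton _)) t)
  let C : AddSubgroup K :=
    { carrier := {t | E.x (R.sim (nD4 0)) t *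
        (E.x (R.sim (nD4 2)) (f t) * E.x (R.sim (nD4 3)) (f (f t))) ∈ H}
      zero_mem' := by simp [E.x_zero]
      add_mem' := fun {s t} hs ht => by
        have := H.mul_mem hs ht
        rwa [((cm 2 0 (by decide) _ _).mul_left (cm 3 0 (by decide) _ _)).mul_mul_mul_comm,
          (cm 3 2 (by decide) _ _).mul_mul_mul_comm, E.x_add, E.x_add, E.x_add, ← map_add,
          ← map_add, ← map_add] at this
      neg_mem' := fun {s} hs => by
        have := H.inv_mem hs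
        rwa [mul_inv_rev, mul_inv_rev, ← E.x_neg, ← E.x_neg, ← E.x_neg, (cm 3 2 (by decide) _ _).eq,
          ((cm 2 0 (by decide) _ _).mul_left (cm 3 0 (by decide) _ _)).eq, ← map_neg, ← map_neg,
          ← map_neg] at this }
  have hr : ∀ t, f t = t → E.x (R.sim (nD4 0)) t *
      (E.x (R.sim (nD4 2)) (f t) * E.x (R.sim (nD4 3)) (f (f t))) ∈ rat T Φ := fun t ht =>
    ⟨((hm _).mpr ⟨t, rfl⟩).2, by
      change Φ _ = _
      simp only [map_mul, h.field _, ht]; rfl⟩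
  have s1 : T.S.τ (R.sim (nD4 1)) = R.sim (nD4 1) := by rw [T.S.τ_sim, T.S_ρ, h4.hρ]; rfl
  have hC : ∀ c ∈ Elts.fixF f, ∀ t ∈ C, c * t ∈ C := fun c hc t ht => by
    by_cases h0 : c = 0
    · rw [h0, zero_mul]; exact zero_mem _
    have hh : ∀ c ∈ Elts.fixF f, E.n (R.sim (nD4 1)) c ∈ H := fun c hc => h1 (mul_mem (mul_mem
      (h.x_mem s1 hc) (h.x_mem (by rw [T.S.τ_neg, s1]) (neg_mem (inv_mem hc)))) (h.x_mem s1 hc))
    have hh' : E.h (R.sim (nD4 1)) c⁻¹ ∈ H :=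
      mul_mem (hh _ (inv_mem hc)) (hh _ (neg_mem (one_mem _)))
    have e : ∀ i : Fin 4, matF 4 alD4 i 1 = -1 → ∀ t, E.h (R.sim (nD4 1)) c⁻¹ * E.x (R.sim (nD4 i)) t *
        (E.h (R.sim (nD4 1)) c⁻¹)⁻¹ = E.x (R.sim (nD4 i)) (c * t) := fun i e t => by
      rw [E.hconj _ _ (inv_ne_zero h0), R.pair_sim_left, R.wt_sim,
        show R.A (nD4 1) (nD4 i) = -1 from (h4.hA 1 i).trans e, zpow_neg_one, inv_inv]
    have := mul_mem (mul_mem hh' ht) (inv_mem hh')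
    rw [← conj_mul, ← conj_mul, e 0 rfl, e 2 rfl, e 3 rfl] at this
    change _ * (_ * _) ∈ H
    rwa [map_mul, map_mul, Elts.mem_fixF.mp hc, Elts.mem_fixF.mp hc]
  have tr : ∀ w ∈ T.S.W1, ∀ {k0 k2 k3 : ℕ}, (w (R.sim (nD4 0)) : ℕ) = k0 → (w (R.sim (nD4 2)) : ℕ) = k2 →
      (w (R.sim (nD4 3)) : ℕ) = k3 → ∀ s0 s2 s3, X.x k0 s0 * (X.x k2 s2 * X.x k3 s3) ∈ T.Γ →
      (X.x k0 s0 * (X.x k2 s2 * X.x k3 s3) ∈ H ↔ s0 ∈ C) := by
    rintro w hw _ _ _ rfl rfl rfl s0 s2 s3 hg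
    obtain ⟨n, hn, hn'⟩ := h.exists_rep (inv_mem hw)
    obtain ⟨c0, b1, b2, b3⟩ := h.conj_x hn hn' (w (R.sim (nD4 0)))
    obtain ⟨c2, -, b4⟩ := hn'.conj_x (w (R.sim (nD4 2)))
    obtain ⟨c3, -, b5⟩ := hn'.conj_x (w (R.sim (nD4 3)))
    have e : n * (X.x (w (R.sim (nD4 0))) s0 * (X.x (w (R.sim (nD4 2))) s2 *
        X.x (w (R.sim (nD4 3))) s3)) * n⁻¹ = E.x (R.sim (nD4 0)) (c0 * s0) *
        (E.x (R.sim (nD4 2)) (c2 * s2) * E.x (R.sim (nD4 3)) (c3 * s3)) := by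
      simp only [← hX, ← conj_mul, b3, b4, b5, Equiv.Perm.coe_inv, Equiv.symm_apply_apply]
    have i0 : ∀ i ∈ [nD4 0, nD4 2, nD4 3], ∀ t, E.x (R.sim i) t ∈ E.XS (T.S.PJ (nD4 0)) :=
      fun i hi t => E.x_mem_XS (o0.PJ_eq ▸ ⟨i, (o0.mem i).mp hi, rfl⟩) t
    obtain ⟨t, e'⟩ := (hm _).mp ⟨mul_mem (i0 _ (by simp) _) (mul_mem (i0 _ (by simp) _)
      (i0 _ (by simp) _)), e ▸ T.Γ.mul_mem (T.Γ.mul_mem hn.1 hg) (T.Γ.inv_mem hn.1)⟩
    have e2 := Tw.IsPM.prod_inj (Or.inl rfl) T.hF o0.nodup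
      (a := ![c0 * s0, 0, c2 * s2, c3 * s3]) (b := ![t, 0, f t, f (f t)])
      (by simp only [List.map_cons, List.map_nil, List.prod_cons, List.prod_nil, mul_one]; exact e')
      (nD4 0) (by simp)
    rw [← H.mul_mem_cancel_left (h1 hn), ← H.mul_mem_cancel_right (inv_mem (h1 hn)), e, e']
    change t ∈ C ↔ _
    rw [← show c0 * s0 = t from e2]
    exact ⟨fun a => by simpa [b1] using hC _ (inv_mem b2) _ a, hC _ b2 _⟩
  have v0 : ∀ i, (R.sim (nD4 i) : ℕ) = [18, 14, 13, 12].getD i 0 := fun i => by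
    rw [R.sim_eq]; revert i; decide
  have hw := mul_mem (T.S.wo_mem_W1 (nD4 0)) (T.S.wo_mem_W1 (nD4 1))
  have inv : ∀ t ∈ C, f t * f (f t) ∈ C := fun t ht' => by
    have b1 : X.x 14 1 ∈ H := by simpa [hX, v0] using h1 (h.x_mem s1 (map_one f))
    have b2 : X.x 18 t * (X.x 13 (f t) * X.x 12 (f (f t))) ∈ H := by simpa [C, hX, v0] using ht'
    generalize f (f t) = t3 at b2 ⊢
    generalize f t = t2 at b2 ⊢
    have b3 := mul_mem (inv_mem b1) (mul_mem (mul_mem b2 b1) (inv_mem b2))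
    rw [d4_conj, mul_inv_cancel, mul_one, inv_mul_cancel_left] at b3
    have mx : ∀ {L : List ℕ} {r : ℕ}, (r < 24 ∧ r ∈ L) → ∀ t, X.x r t ∈ E.XS (rset chevD4 L) :=
      fun {L r} e t => hX ⟨r, e.1⟩ t ▸ E.x_mem_XS (S := rset chevD4 L) e.2 t
    have un : ∀ {S B : List ℕ}, ((∀ r < 24, r ∈ S → chevD4.IsPosRoot r ∧ τD4 r ∈ S ∧ r ∉ B) ∧
        coneChk chevD4 S S S = true ∧ (∀ r < 24, r ∈ B → chevD4.IsPosRoot r ∧ τD4 r ∈ B) ∧
        coneChk chevD4 B B B = true) → ∀ {a b}, a ∈ E.XS (rset chevD4 S) →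
        b ∈ E.XS (rset chevD4 B) → a * b ∈ T.Γ → a ∈ T.Γ ∧ b ∈ T.Γ := fun {S B} e => T.fix_of_mul
      (fun _ => T.σ_mem_XS fun r hr => by rw [rset, Set.mem_ofPred_eq, ht]; exact (e.1 r r.2 hr).2.1)
      (fun _ => T.σ_mem_XS fun r hr => by rw [rset, Set.mem_ofPred_eq, ht]; exact (e.2.2.1 r r.2 hr).2)
      fun g c1 c2 => by
        have := T.hF.inf_XS (fun a ha r hr => (cone_of_chk hl e.2.1 a ha r hr).2)
          (fun a ha r hr => (cone_of_chk hl e.2.2.2 a ha r hr).2)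
          (fun r hr => (R.isPosRoot_iff r).mp (e.1 r r.2 hr).1)
          (fun r hr => (R.isPosRoot_iff r).mp (e.2.2.1 r r.2 hr).1) ▸ Subgroup.mem_inf.mpr ⟨c1, c2⟩
        rwa [Set.eq_empty_of_forall_notMem (s := rset chevD4 S ∩ rset chevD4 B) fun r hr =>
          (e.1 r r.2 hr.1).2.2 hr.2, E.XS_empty, Subgroup.mem_bot] at this
    have b4 := un (S := [15, 16, 19]) (B := [17, 20, 21, 22, 23]) (by decide +kernel)
      (mul_mem (mx (by decide) _) (mul_mem (mx (by decide) _) (mx (by decide) _)))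
      (mul_mem (mul_mem (mx (by decide) _) (mul_mem (mx (by decide) _) (mx (by decide) _)))
        (mul_mem (mx (by decide) _) (mx (by decide) _))) (h2 b3)
    rw [H.mul_mem_cancel_left ((tr _ (T.S.wo_mem_W1 (nD4 1)) (by rw [w1, v0]; rfl)
      (by rw [w1, v0]; rfl) (by rw [w1, v0]; rfl) _ _ _ b4.1).mpr (neg_mem ht'))] at b3
    have b5 : _ ∈ E.XS (rset chevD4 [22, 23]) := mul_mem (mx (r := 22) (by decide) (-(t3 * t2 * t)))
      (mx (r := 23) (by decide) (-(t3 * t2 * t)))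
    have b6 := un (S := [17, 20, 21]) (by decide +kernel)
      (mul_mem (mx (by decide) _) (mul_mem (mx (by decide) _) (mx (by decide) _))) b5 (h2 b3)
    rw [H.mul_mem_cancel_right (h1 (fx (by decide) _ ⟨b5, b6.2⟩))] at b3
    exact (tr _ hw (by rw [Equiv.Perm.mul_apply, w0, w1, v0]; rfl)
      (by rw [Equiv.Perm.mul_apply, w0, w1, v0]; rfl)
      (by rw [Equiv.Perm.mul_apply, w0, w1, v0]; rfl) _ _ _ b6.1).mp b3
  obtain ⟨b, hb, a5⟩ := h.conj_ne h1 (mul_mem (T.S.wo_mem_W1 (nD4 1)) (T.S.wo_mem_W1 (nD4 0)))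
    (B := T.S.PJ (nD4 0)) (by
      simp only [hP, rset, Set.mem_ofPred_eq, Equiv.Perm.mul_apply, w0, w1]; decide +kernel)
    ⟨a, ha, a4⟩
  obtain ⟨t, rfl⟩ := (hm b).mp ⟨hb.1, h2 hb.2⟩
  have f3 : ∀ t, f (f (f t)) = t := fun t => by simp only [← hf, h4.pow_pow]
  have n1 : f t ≠ t := fun e => a5 (hr t e).2
  have key := eq_top_of_indep hK hC (v := ![1, t, f t * f (f t)])
    (by simpa [Fin.forall_fin_succ] using ⟨h1 (hr 1 (map_one f)), hb.2, inv t hb.2⟩) fun g e => ?_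
  · refine Or.inr (le_antisymm h2 (h.le_of_PJ h1 h4.G1_eq fun i b1 g hg => ?_))
    obtain ⟨s, rfl⟩ := (hm g).mp (by
      have : i ∈ T.S.orb (nD4 0) := (o0.mem i).mp (by rw [h4.hρ] at b1; clear hg; revert i; decide)
      rwa [RTw.PJ, T.S.orb_eq_of_mem this] at hg)
    exact key s
  · simp only [Fin.sum_univ_three, Matrix.cons_val_zero, Matrix.cons_val_one, mul_one,
      Matrix.cons_val] at e
    have e1 := congrArg f e
    have e2 := congrArg f e1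
    simp only [map_add, map_mul, map_zero, Elts.mem_fixF.mp (g _).2, f3] at e1 e2
    have n2 : f (f t) ≠ f t := fun e => n1 (f.injective e)
    have n3 : t ≠ f (f t) := fun e => n1 ((congrArg f e).trans (f3 t))
    have c1 : (g 1 : K) = g 2 * f (f t) :=
      mul_left_cancel₀ (sub_ne_zero.mpr n1) (by linear_combination e1 - e)
    have c2 : (g 1 : K) = g 2 * t :=
      mul_left_cancel₀ (sub_ne_zero.mpr n2) (by linear_combination e2 - e1)
    have c3 : (g 2 : K) = 0 := mul_left_cancel₀ (sub_ne_zero.mpr n3) (by linear_combination c1 - c2)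
    rw [c3, zero_mul] at c1
    rw [c1, c3, zero_mul, zero_mul, add_zero, add_zero] at e
    intro i
    fin_cases i <;> exact Subtype.ext ‹_›

end D4

section matrices

variable {D : ChevalleyDatum} {K : Type*} [Field K] {R : RootSys D}
  {E : Elts R.toRS K (GL D.Idx K)} (hE : IsMat R E)
  (hD : D ∈ [chevG2, chevB2, chevD4, chevF4, chevE6, chevE7, chevE8]) (f : K →+* K)

/-- The field endomorphism of the matrix group. -/
def IsMat.fld : D.group K →* D.group K :=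
  ((Matrix.GeneralLinearGroup.map f).comp (D.group K).subtype).codRestrict _ fun g =>
    hE.Gp_eq.ge ((hE.isField hD f).mem_XS (hE.Gp_eq.le g.2))

lemma IsMat.fld_isField : hE.grp.IsField (hE.fld hD f) f := fun r t =>
  Subtype.ext (hE.isField hD f r t)

theorem IsMat.max_of_rat {T : Tw hE.grp} {A M : Subgroup (GL D.Idx K)}
    (hA : A = T.Γ.map (D.group K).subtype) (hM : ∀ g : GL D.Idx K, g ∈ M ↔ g ∈ A ∧
      ∀ i j, f ((g : Matrix D.Idx D.Idx K) i j) = (g : Matrix D.Idx D.Idx K) i j)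
    (h1 : rat T (hE.fld hD f) ≠ T.Γ) (h2 : ∀ H, rat T (hE.fld hD f) ≤ H → H ≤ T.Γ →
      H = rat T (hE.fld hD f) ∨ H = T.Γ) : M ≠ A ∧ ∀ H, M ≤ H → H ≤ A → H = M ∨ H = A := by
  have hi := Subgroup.map_injective (D.group K).subtype_injective
  obtain rfl : M = (rat T (hE.fld hD f)).map (D.group K).subtype := Subgroup.ext fun g => by
    rw [hM, hA, ← glMap_eq_iff]
    exact ⟨fun ⟨⟨a, a1, a2⟩, e⟩ => ⟨a, ⟨a1, Subtype.ext (by subst a2; exact e)⟩, a2⟩,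
      fun ⟨a, a1, a2⟩ => ⟨⟨a, a1.1, a2⟩, a2 ▸ congrArg Subtype.val a1.2⟩⟩
  subst hA
  refine ⟨hi.ne h1, fun H a1 a2 => ?_⟩
  obtain ⟨H, rfl⟩ : ∃ H', H = Subgroup.map (D.group K).subtype H' :=
    ⟨_, (Subgroup.map_comap_eq_self (a2.trans (Subgroup.map_le_range _ _))).symm⟩
  rw [Subgroup.map_le_map_iff_of_injective (D.group K).subtype_injective] at a1 a2
  exact (h2 _ a1 a2).imp (congrArg _) (congrArg _)

end matrices

end H38
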