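import Cfsg.Agent.Base
import Cfsg.Agent.Lib.Chev.Torus

/-! Subgroups of `U` that are weakly closed in `U` are unipotent radicals. -/

set_option autoImplicit false

namespace H9

open H38

section Zsub

variable {σ K G : Type*} [Group G]

/-- an ordered product of one-parameter elements -/
def PP (y : σ → K → G) (L : List σ) (c : σ → K) : G := (L.map fun j => y j (c j)).prod

variable {y : σ → K → G}

theorem PP_cons (j : σ) (L : List σ) (c : σ → K) : PP y (j :: L) c = y j (c j) * PP y L c := by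
  simp [PP]

theorem PP_append (L L' : List σ) (c : σ → K) : PP y (L ++ L') c = PP y L c * PP y L' c := by
  simp [PP]

theorem PP_mem {U : Subgroup G} {L : List σ} {c : σ → K} (hU : ∀ j ∈ L, y j (c j) ∈ U) :
    PP y L c ∈ U :=
  U.list_prod_mem fun _ hx => by
    obtain ⟨j, hj, rfl⟩ := List.mem_map.1 hx
    exact hU j hj

variable [AddCommGroup K] (hy : ∀ j a b, y j a * y j b = y j (a + b)) {U M : Subgroup G}
  (hM : ∀ g ∈ U, ∀ a ∈ M, g * a * g⁻¹ ∈ M) {L : List σ} (hU : ∀ j ∈ L, ∀ a, y j a ∈ U)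
  (hc : L.Pairwise fun j k => ∀ a b, y j a * y k b * (y j a)⁻¹ * (y k b)⁻¹ ∈ M)

include hy in
theorem y_zero (j : σ) : y j 0 = 1 := by
  have := hy j 0 0
  rwa [add_zero, mul_eq_left] at this

include hy in
theorem PP_eq_one {c : σ → K} (h : ∀ j ∈ L, c j = 0) : PP y L c = 1 :=
  List.prod_eq_one fun _ hx => by
    obtain ⟨j, hj, rfl⟩ := List.mem_map.1 hx
    rw [h j hj, y_zero hy]

omit [AddCommGroup K] in
include hM hU in
theorem comm_PP {g : G} (h : ∀ j ∈ L, ∀ a, g * y j a * g⁻¹ * (y j a)⁻¹ ∈ M) (c : σ → K) :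
    g * PP y L c * g⁻¹ * (PP y L c)⁻¹ ∈ M := by
  induction L with
  | nil => simp [PP]
  | cons j L ih =>
    have h1 := hM _ (hU j List.mem_cons_self (c j)) _
      (ih (fun k hk => hU k (List.mem_cons_of_mem _ hk)) fun k hk => h k (List.mem_cons_of_mem _ hk))
    rw [PP_cons]
    convert M.mul_mem (h j List.mem_cons_self (c j)) h1 using 1
    group

include hy hM hU hc in
theorem PP_add (c c' : σ → K) : PP y L c * PP y L c' * (PP y L (c + c'))⁻¹ ∈ M := by
  induction L with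
  | nil => simp [PP]
  | cons j L ih =>
    obtain ⟨h1, h2⟩ := List.pairwise_cons.1 hc
    have hU' := fun k hk => hU k (List.mem_cons_of_mem j hk)
    have h3 := comm_PP hM hU' (g := y j (-c' j)) (fun k hk => h1 k hk _) c
    have e : y j (-c' j) = (y j (c' j))⁻¹ :=
      eq_inv_of_mul_eq_one_left (by rw [hy, neg_add_cancel, y_zero hy])
    have h4 := hM _ (hU j List.mem_cons_self (c j + c' j)) _ (M.mul_mem h3 (ih hU' h2))
    rw [PP_cons, PP_cons, PP_cons, Pi.add_apply]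
    convert h4 using 1
    rw [← hy, e]
    group

/-- the coefficient vectors whose product lies in `C` -/
def Zsub {C : Subgroup G} (hC : M ≤ C) : AddSubgroup (σ → K) where
  carrier := {c | PP y L c ∈ C}
  zero_mem' := by
    change PP y L 0 ∈ C
    rw [PP_eq_one hy (c := 0) fun _ _ => rfl]
    exact C.one_mem
  add_mem' := fun {c c'} h h' => by
    have := C.mul_mem (C.inv_mem (hC (PP_add hy hM hU hc c c'))) (C.mul_mem h h')
    change PP y L (c + c') ∈ C
    convert this using 1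
    group
  neg_mem' := fun {c} h => by
    have := C.mul_mem (C.inv_mem h) (hC (PP_add hy hM hU hc c (-c)))
    rw [add_neg_cancel, PP_eq_one hy (c := 0) fun _ _ => rfl] at this
    change PP y L (-c) ∈ C
    convert this using 1
    group

end Zsub

theorem le_of_le_sup_commutator {G : Type*} [Group G] {U X A : Subgroup G} [Group.IsNilpotent U]
    (hX : X ≤ U) (hA : A ≤ U) (hn : ∀ g ∈ U, ∀ a ∈ X, g * a * g⁻¹ ∈ X) (h : A ≤ X ⊔ ⁅A, U⁆) :
    A ≤ X := by
  have : (X.subgroupOf U).Normal := ⟨fun a ha g => hn g g.2 a ha⟩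
  let φ := QuotientGroup.mk' (X.subgroupOf U)
  have h1 : A.subgroupOf U ≤ X.subgroupOf U ⊔ ⁅A.subgroupOf U, ⊤⁆ := by
    rw [← Subgroup.map_le_map_iff_of_injective U.subtype_injective, Subgroup.map_sup,
      Subgroup.map_commutator, Subgroup.map_subgroupOf_eq_of_le hA,
      Subgroup.map_subgroupOf_eq_of_le hX, ← MonoidHom.range_eq_map, Subgroup.range_subtype]
    exact h
  have h2 : (A.subgroupOf U).map φ ≤ ⁅(A.subgroupOf U).map φ, ⊤⁆ := by
    refine (Subgroup.map_mono h1).trans ?_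
    rw [Subgroup.map_sup, Subgroup.map_commutator, QuotientGroup.map_mk'_self, bot_sup_eq]
    exact Subgroup.commutator_mono le_rfl le_top
  have h3 : ∀ n, (A.subgroupOf U).map φ ≤ Subgroup.lowerCentralSeries ⊤ n := by
    intro n
    induction n with
    | zero => exact le_top
    | succ n ih => exact h2.trans (Subgroup.commutator_mono ih le_rfl)
  obtain ⟨n, hn⟩ := Subgroup.nilpotent_iff_lowerCentralSeries.1
    (inferInstance : Group.IsNilpotent (U ⧸ X.subgroupOf U))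
  have h4 := h3 n
  rw [hn, le_bot_iff, Subgroup.map_eq_bot_iff, QuotientGroup.ker_mk'] at h4
  exact fun a ha => h4 (x := ⟨a, hA ha⟩) ha

theorem mem_of_sq {K : Type*} [Field K] [Finite K] (S : AddSubgroup K) (h : ∀ a, a ^ 2 ∈ S) (s : K) :
    s ∈ S := by
  by_cases h2 : ringChar K = 2
  · obtain ⟨a, rfl⟩ := FiniteField.isSquare_of_char_two h2 s
    exact sq a ▸ h a
  · have h4 : (4 : K) ≠ 0 := by
      rw [show (4 : K) = 2 * 2 by norm_num]
      exact mul_ne_zero (Ring.two_ne_zero h2) (Ring.two_ne_zero h2)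
    convert S.sub_mem (h (s / 4 + 1)) (h (s / 4 - 1)) using 1
    field_simp
    ring

variable {ι l : Type} [Fintype l] [DecidableEq l] {R : RS ι l}
variable {K : Type*} [Field K] {G : Type*} [Group G] {E : Elts R K G}

theorem single_mem [Finite K] {Z : AddSubgroup (l → K)}
    (hZ : ∀ c ∈ Z, ∀ γ, ∀ a : K, a ≠ 0 → (fun j => a ^ R.pair γ (R.sim j) * c j) ∈ Z) {i : l}
    (sep : ∀ j, j ≠ i → ∃ γ, ∃ a : K, a ≠ 0 ∧ R.pair γ (R.sim j) = 0 ∧ a ^ R.pair γ (R.sim i) ≠ 1)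
    {c : l → K} (hc : c ∈ Z) (hi : c i ≠ 0) (t : K) : Pi.single i t ∈ Z := by
  have key : ∀ s : Finset l, ∃ c ∈ Z, c i ≠ 0 ∧ ∀ j ∈ s, j ≠ i → c j = 0 := by
    intro s
    induction s using Finset.induction_on with
    | empty => exact ⟨c, hc, hi, by simp⟩
    | insert k s _ ih =>
      obtain ⟨d, hd, h1, h2⟩ := ih
      by_cases hk : k = i
      · exact ⟨d, hd, h1, fun j hj hji => h2 j ((Finset.mem_insert.1 hj).resolve_left (hk ▸ hji)) hji⟩
      obtain ⟨γ, a, ha, h3, h4⟩ := sep k hk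
      refine ⟨_, Z.sub_mem (hZ d hd γ a ha) hd, ?_, fun j hj hji => ?_⟩
      · rw [Pi.sub_apply, ← sub_one_mul]
        exact mul_ne_zero (sub_ne_zero.2 h4) h1
      · rcases Finset.mem_insert.1 hj with rfl | hj
        · simp [h3]
        · simp [h2 j hj hji]
  obtain ⟨d, hd, h1, h2⟩ := key Finset.univ
  have := mem_of_sq (Z.comap ((LinearMap.single K (fun _ => K) i).toAddMonoidHom.comp
    (AddMonoidHom.mulRight (d i)))) (fun a => ?_) (t / d i)
  · simpa [div_mul_cancel₀ t h1] using this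
  by_cases ha : a = 0
  · rw [ha, zero_pow two_ne_zero]; exact AddSubgroup.zero_mem _
  change Pi.single i (a ^ 2 * d i) ∈ Z
  convert hZ d hd (R.sim i) a ha using 1
  funext j
  by_cases hj : j = i
  · rw [hj, Pi.single_eq_same, R.pair_self, zpow_ofNat]
  · rw [Pi.single_eq_of_ne hj, h2 j (Finset.mem_univ _) hj, mul_zero]

theorem eq_sim_of_ht {r : ι} (hr : R.Pos r) (h : R.ht r < 2) : ∃ i, r = R.sim i := by
  obtain ⟨i, hi, -⟩ := R.exists_wt_pos hr
  refine ⟨i, (R.eq_sim_of_supp fun j hj => ?_).resolve_right fun e =>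
    (R.pos_neg_iff _).1 (e ▸ hr) (R.pos_sim i)⟩
  have h1 := (R.pos_iff r).1 hr
  have h2 := Finset.sum_le_sum_of_subset_of_nonneg (Finset.subset_univ {j, i}) fun k _ _ => h1 k
  rw [Finset.sum_pair hj, ← R.ht_eq] at h2
  have := h1 j
  omega

theorem mem_UJ_of_conj [Finite ι] (hF : E.Faith) {J : Set l} {g n : G} (hg : g ∈ E.U)
    (hn : E.Rep n (R.wJ J)) (h : n * g * n⁻¹ ∈ E.U) : g ∈ E.UJ J := by
  obtain ⟨a, ha, b, hb, rfl⟩ := E.exists_mul R.closed_pos (fun _ h => h) (S1 := {r | R.InSub J r})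
    (S2 := {r | ¬ R.InSub J r}) (fun r _ => em _) hg
  have h1 : n * b * n⁻¹ ∈ E.U :=
    hn.conj_mem_XS (fun s hs => R.pos_WJ_of_not_inSub (R.wJ_mem J) hs.1 hs.2) hb
  have h2 : n * a * n⁻¹ ∈ E.U := by
    convert E.U.mul_mem h (E.U.inv_mem h1) using 1
    group
  have h3 := hF.B_inf_V _ (E.U_le_B h2) (hn.conj_mem_XS (fun s hs => R.wJ_not_pos hs.1 hs.2) ha)
  rw [conj_eq_one_iff] at h3
  rw [h3, one_mul]
  exact hb

theorem ne_neg_of_pos {r k : ι} (h1 : R.Pos r) (h2 : R.Pos k) : k ≠ R.neg r := fun e =>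
  (R.pos_neg_iff _).1 (e ▸ h2) h1

theorem weakly_closed [Finite ι] [Finite K] (hF : E.Faith)
    (sep : ∀ i j, j ≠ i → ∃ γ, ∃ a : K, a ≠ 0 ∧ R.pair γ (R.sim j) = 0 ∧ a ^ R.pair γ (R.sim i) ≠ 1)
    (gen : ∀ r, 2 ≤ R.ht r → ∃ a b, R.Pos a ∧ R.Pos b ∧ r ∈ R.Cone a b ∧ ∀ C : Subgroup G,
      (∀ t u, E.x a t * E.x b u * (E.x a t)⁻¹ * (E.x b u)⁻¹ ∈ C) → (∀ k ∈ R.Cone a b, R.ht r < R.ht k → ∀ t, E.x k t ∈ C) →
        ∀ t, E.x r t ∈ C)
    {X : Subgroup G} (hX : X ≤ E.U)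
    (wc : ∀ g ∈ E.Gp, (∀ a ∈ X, g * a * g⁻¹ ∈ E.U) → ∀ a ∈ X, g * a * g⁻¹ ∈ X) :
    ∃ J, X = E.UJ J := by
  let J : Set l := {i | X ≤ E.UJ {i}}
  have hB : ∀ g ∈ E.B, ∀ a ∈ X, g * a * g⁻¹ ∈ X := fun g hg =>
    wc g (E.B_le_Gp hg) fun a ha => E.B_conj_mem_U hg (hX ha)
  have h1 : X ≤ E.UJ J := by
    have : ∀ w (hw : w ∈ R.WJ J), ∃ n, E.Rep n w ∧ ∀ a ∈ X, n * a * n⁻¹ ∈ X := by
      intro w hw
      refine R.WJ_induction_left (P := fun w _ => ∃ n, E.Rep n w ∧ ∀ a ∈ X, n * a * n⁻¹ ∈ X)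
        ⟨1, E.rep_one, by simp⟩ ?_ hw
      rintro i hi w - ⟨n, hn, h⟩
      have hm := E.rep_n_sim i (one_ne_zero' K)
      refine ⟨_, hm.mul hn, fun a ha => ?_⟩
      have := wc _ (E.N_le_Gp hm.mem_N) (fun a ha => E.UJ_le_U {i} (E.P_conj_mem_UJ
        (hm.mem_PS _ (R.s_mem_WJ rfl)) (hi ha))) _ (h a ha)
      convert this using 1
      group
    obtain ⟨n, hn, h⟩ := this _ (R.wJ_mem J)
    exact fun a ha => mem_UJ_of_conj hF (hX ha) hn (hX (h a ha))
  refine ⟨J, le_antisymm h1 ?_⟩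
  have := E.U_isNilpotent
  refine le_of_le_sup_commutator hX (E.UJ_le_U J) (fun g hg => hB g (E.U_le_B hg)) ?_
  -- the non-simple roots
  have h2 : ∀ r, 2 ≤ R.ht r → ¬ R.InSub J r → ∀ t, E.x r t ∈ ⁅E.UJ J, E.U⁆ := by
    intro r
    have : IsTrans ι fun a b : ι => R.ht b < R.ht a := ⟨fun _ _ _ h h' => h'.trans h⟩
    have : Std.Irrefl fun a b : ι => R.ht b < R.ht a := ⟨fun _ => lt_irrefl _⟩
    induction r using (Finite.wellFounded_of_trans_of_irrefl fun a b : ι => R.ht b < R.ht a).induction with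
    | _ r ih =>
    intro hr hJ
    obtain ⟨a, b, ha, hb, hab, h⟩ := gen r hr
    have h3 : ¬ R.InSub J a ∨ ¬ R.InSub J b := by
      by_contra h3
      push Not at h3
      exact hJ (R.closed_inSub J a h3.1 b h3.2 hab)
    refine h _ (fun t u => ?_) fun k hk h4 => ih k h4 (by omega) ?_
    · rcases h3 with h3 | h3
      · exact Subgroup.commutator_mem_commutator (E.x_mem_XS (And.intro ha h3) t) (E.x_mem_U hb u)
      · rw [Subgroup.commutator_comm]
        exact Subgroup.commutator_mem_commutator (E.x_mem_U ha t) (E.x_mem_XS (And.intro hb h3) u)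
    · rcases h3 with h3 | h3
      · exact (R.cone_rad (Or.inl hb) ha h3 (R.cone_comm a b ▸ hk)).2
      · exact (R.cone_rad (Or.inl ha) hb h3 hk).2
  -- the simple roots
  let M := E.XS {r | R.Pos r ∧ 2 ≤ R.ht r}
  have c2 : ∀ r, R.Pos r → ∀ k, R.Pos k → R.Cone r k ⊆ {r | R.Pos r ∧ 2 ≤ R.ht r} :=
    fun r hr k hk j hj => ⟨R.pos_of_cone hr hk hj, by
      have := (R.ht_lt_of_cone hr hk hj).1
      have := (R.ht_pos_iff r).2 hr
      omega⟩
  have hM : ∀ g ∈ E.U, ∀ a ∈ M, g * a * g⁻¹ ∈ M := fun g hg a ha =>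
    E.XS_conj_mem (fun r hr k hk => ⟨ne_neg_of_pos hr hk.1, c2 r hr k hk.1⟩) hg ha
  have hMU : ∀ g ∈ E.U, ∀ a ∈ E.U, g * a * g⁻¹ * a⁻¹ ∈ M := fun g hg a ha => by
    have := (E.filt R.closed_pos fun _ h => h).comm_mem_level 1 hg (a := a)
      (E.mem_XS_mono ha fun r hr => And.intro hr ((R.ht_pos_iff r).2 hr))
    exact this
  have hmem : ∀ g, g ∈ X ⊔ M ↔ ∃ a ∈ X, ∃ b ∈ M, a * b = g := fun g => by
    rw [← SetLike.mem_coe, Subgroup.coe_mul_of_left_le_normalizer_right X M fun a ha =>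
      Subgroup.mem_normalizer_iff.2 fun b => ⟨hM a (hX ha) b, fun h => by
        simpa [mul_assoc] using hM _ (E.U.inv_mem (hX ha)) _ h⟩]
    exact Set.mem_mul
  let y : l → K → G := fun j => E.x (R.sim j)
  let L := (Finset.univ : Finset l).toList
  have hy : ∀ j a b, y j a * y j b = y j (a + b) := fun j => E.x_add _
  have hU : ∀ j ∈ L, ∀ a, y j a ∈ E.U := fun j _ => E.x_mem_U (R.pos_sim j)
  have hc : L.Pairwise fun j k => ∀ a b, y j a * y k b * (y j a)⁻¹ * (y k b)⁻¹ ∈ M :=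
    List.pairwise_of_forall fun j k a b => hMU _ (E.x_mem_U (R.pos_sim j) a) _ (E.x_mem_U (R.pos_sim k) b)
  have hs : ∀ i t, PP y L (Pi.single i t) = y i t := fun i t => by
    obtain ⟨L1, L2, e⟩ := List.append_of_mem (Finset.mem_toList.2 (Finset.mem_univ i))
    have hn := Finset.nodup_toList (Finset.univ : Finset l)
    rw [e, List.nodup_middle, List.nodup_cons, List.mem_append, not_or] at hn
    rw [show L = _ from e, PP_append, PP_cons, Pi.single_eq_same,
      PP_eq_one hy fun j hj => Pi.single_eq_of_ne (by rintro rfl; exact hn.1.1 hj) _,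
      PP_eq_one hy fun j hj => Pi.single_eq_of_ne (by rintro rfl; exact hn.1.2 hj) _, one_mul, mul_one]
  have hsurj : ∀ g ∈ E.U, ∃ c, g * (PP y L c)⁻¹ ∈ M := fun g hg => by
    refine E.XS_induction (P := fun g => ∃ c, g * (PP y L c)⁻¹ ∈ M) hg (fun r hr t => ?_)
      ⟨0, by rw [PP_eq_one hy (c := 0) fun _ _ => rfl]; simp⟩ ?_
    · by_cases h : R.ht r < 2
      · obtain ⟨i, rfl⟩ := eq_sim_of_ht hr h
        exact ⟨Pi.single i t, by rw [hs]; simp [y]⟩
      · exact ⟨0, by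
          rw [PP_eq_one hy (c := 0) fun _ _ => rfl, inv_one, mul_one]
          exact E.x_mem_XS (And.intro hr (not_lt.1 h)) t⟩
    · rintro a b ha - ⟨c, h1⟩ ⟨d, h2⟩
      refine ⟨c + d, ?_⟩
      convert M.mul_mem (M.mul_mem (hM a ha _ h2) h1) (PP_add hy hM hU hc c d) using 1
      group
  have h3 : ∀ i, i ∉ J → ∀ t, y i t ∈ X ⊔ M := by
    intro i hi t
    obtain ⟨g, hg, hg'⟩ := SetLike.not_le_iff_exists.1 (show ¬ X ≤ E.UJ {i} from hi)
    obtain ⟨c, h4⟩ := hsurj g (hX hg)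
    have hle : M ≤ E.UJ {i} := E.UJ_singleton i ▸ E.XS_mono fun r hr => ⟨hr.1, by
      rintro rfl
      have := hr.2
      rw [R.ht_sim] at this
      omega⟩
    have := single_mem (R := R) (Z := Zsub hy hM hU hc (C := X ⊔ M) le_sup_right) (fun c hc γ a ha => ?_)
      (sep i) (c := c) ?_ (fun h0 => hg' ?_) t
    · rw [← hs]; exact this
    · have e : PP y L (fun j => a ^ R.pair γ (R.sim j) * c j) = E.h γ a * PP y L c * (E.h γ a)⁻¹ := by
        generalize L = L'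
        induction L' with
        | nil => simp [PP]
        | cons j L' ih => rw [PP_cons, PP_cons, ih]; simp only [y]; rw [← E.hconj _ _ ha]; group
      obtain ⟨u, hu, v, hv, e'⟩ := (hmem _).1 hc
      change PP y L _ ∈ X ⊔ M
      rw [e, ← e']
      convert Subgroup.mul_mem_sup (hB _ (E.H_le_B (E.h_mem_H γ ha)) u hu)
        (E.H_conj_mem_XS (E.h_mem_H γ ha) hv) using 1
      group
    · change PP y L c ∈ X ⊔ M
      convert Subgroup.mul_mem _ (Subgroup.inv_mem _ (Subgroup.mem_sup_right h4))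
        (Subgroup.mem_sup_left hg) using 1
      group
    · have h5 : PP y L c ∈ E.UJ {i} := PP_mem fun j _ => by
        by_cases hj : j = i
        · rw [hj, h0, y_zero hy]; exact Subgroup.one_mem _
        · exact E.x_mem_XS (And.intro (R.pos_sim j) (by rw [R.inSub_sim]; exact hj)) _
      simpa using Subgroup.mul_mem _ (hle h4) h5
  refine E.XS_le.2 fun r hr t => ?_
  by_cases h : R.ht r < 2
  · obtain ⟨i, rfl⟩ := eq_sim_of_ht hr.1 h
    obtain ⟨u, hu, v, hv, e⟩ := (hmem _).1 (h3 i (fun hi => hr.2 (R.inSub_sim.2 hi)) t)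
    have h4 : v ∈ M ⊓ E.UJ J := ⟨hv, by
      rw [← inv_mul_eq_of_eq_mul e.symm]
      exact Subgroup.mul_mem _ (Subgroup.inv_mem _ (h1 hu)) (E.x_mem_XS hr t)⟩
    rw [Elts.UJ, hF.inf_XS (fun r hr k hk => c2 r hr.1 k hk.1) (R.closed_rad J) (fun _ h => h.1)
      fun _ h => h.1] at h4
    change y i t ∈ _
    rw [← e]
    exact Subgroup.mul_mem_sup hu (E.XS_le.2 (fun k hk => h2 k hk.1.2 hk.2.2) h4)
  · exact Subgroup.mem_sup_right (h2 r (not_lt.1 h) hr.2 t)

end H9
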